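import Groth.Agent.HNSplit.Quot
import Groth.Agent.ExtShX.DualTensor
import Groth.Agent.W7Hull.SheafHomExact
import Groth.Agent.W7Hull.LiftHom
import Groth.Agent.W7Slope.Twist
import Groth.Agent.W7Slope.Max

/-!
# Splitting of extensions of bundles on curves with no maps to twists of the quotient
-/

set_option autoImplicit false
set_option linter.style.haveILetI false
set_option linter.unusedSectionVars false
set_option backward.isDefEq.respectTransparency false
set_option backward.isDefEq.respectTransparency.types false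

universe u

open CategoryTheory CategoryTheory.Limits AlgebraicGeometry TopologicalSpace Opposite
open Groth.Agent.CurveRR Groth.Agent.CohFinite Groth.Agent.W7Slope
open TMul (homOf val_homOf)
open Groth.Agent.QC (res res_self)

noncomputable section

namespace Groth.Agent.HNSplit

theorem uncur_zero {X : Scheme.{u}} {F M G : X.Modules} :
    W7Hull.uncur (0 : M ⟶ RefHull.homSh F G) = 0 := by
  refine TMul.hom_ext fun U a m => RefStalk.germ_ext fun y hy => ?_
  rw [W7Hull.uncur_tm]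
  exact (LinearMap.zero_apply _).trans (map_zero _).symm

theorem isIso_bidualMap {X : Scheme.{u}} [IsLocallyNoetherian X] {E : X.Modules} (hE : FlatMod.IsFinLocFree E) :
    IsIso (RefHull.bidualMap E) := by
  have hc : Coh.IsCoh E := ⟨LocFree.isQCoh_of_isFinLocFree hE, LocFree.isFT_of_isFinLocFree hE⟩
  refine (RefStalk.isReflexive_iff hc).2 fun x => ?_
  haveI := LocFree.free_stalk_of_isFinLocFree hE x
  obtain ⟨_, ⟨U, hU, rfl⟩, hx, -⟩ := X.isBasis_affineOpens.exists_subset_of_mem_open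
    (Set.mem_univ x) isOpen_univ
  haveI := LocFree.finitePresentation_sections hE hU
  haveI := LocFree.finite_stalk hU hc.1 hx
  show Module.IsReflexive _ _
  infer_instance

/-- A nonzero map `ℋom(B, A) → Q` gives a nonzero map `A → B ⊗ Q`. -/
theorem exists_hom_tensor {X : Scheme.{u}} [IsLocallyNoetherian X] {A B Q : X.Modules}
    (hB : FlatMod.IsFinLocFree B) (ψ : RefHull.homSh B A ⟶ Q) (hψ : ψ ≠ 0) :
    ∃ f : A ⟶ CohB1.tensorMod B Q, f ≠ 0 := by
  haveI := ExtShX.isIso_dualTensorTo hB A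
  haveI := ExtShX.isIso_dualTensorTo (ResDesc.isFinLocFree_dual hB) Q
  haveI : IsIso (RefHull.bidualMap B) := isIso_bidualMap hB
  let ψ' := ExtShX.dualTensorTo B A ≫ ψ
  have hψ' : ψ' ≠ 0 := fun h => hψ ((cancel_epi (ExtShX.dualTensorTo B A)).1 (h.trans comp_zero.symm))
  let c : A ⟶ RefHull.homSh (RefHull.dual B) Q := W7Hull.cur ψ'
  have hc : c ≠ 0 := fun h => hψ' (by
    rw [← W7Hull.curEquiv.symm_apply_apply ψ']
    show W7Hull.uncur c = 0
    rw [h, uncur_zero])
  let e : RefHull.homSh (RefHull.dual B) Q ≅ CohB1.tensorMod B Q :=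
    (asIso (ExtShX.dualTensorTo (RefHull.dual B) Q)).symm ≪≫
      PicGrp.tensorModIso (asIso (RefHull.bidualMap B)).symm (Iso.refl Q)
  exact ⟨c ≫ e.hom, fun h => hc ((cancel_mono e.hom).1 (h.trans zero_comp.symm))⟩

variable {k : Type u} [Field k] {X : Scheme.{u}} [X.Over (Spec (CommRingCat.of k))]
  [IsProper (X ↘ Spec (CommRingCat.of k))] [IsIntegral X]

variable (k) in
/-- An extension of `B` by `A` splits when `A` has no maps to `B ⊗ Q` for `deg Q ≤ 2g - 2`. -/
theorem isSplitEpi_of_hom_eq_zero (hdim : topologicalKrullDim X = 1) (hX : RegCurve X)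
    (h0 : CurveRR.h k (Coh.structureModule X) 0 = 1) (T : ShortComplex X.Modules) (hT : T.ShortExact) {a b : ℕ}
    (hA : FlatMod.IsFinLocFreeOfRank a T.X₁) (hB : FlatMod.IsFinLocFreeOfRank b T.X₃)
    (hom0 : ∀ Q : X.Modules, PicF.IsInvertible Q → Curv2.deg k X Q 1 ≤ 2 * (Curv2.genus k X : ℤ) - 2 →
      ∀ f : T.X₁ ⟶ CohB1.tensorMod T.X₃ Q, f = 0) : IsSplitEpi T.g := by
  haveI := isNoetherian_of_proper k X
  have hBl : FlatMod.IsFinLocFree T.X₃ := fun x => by
    obtain ⟨U, hx, e⟩ := hB x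
    exact ⟨U, b, hx, e⟩
  have hAl : FlatMod.IsFinLocFree T.X₁ := fun x => by
    obtain ⟨U, hx, e⟩ := hA x
    exact ⟨U, a, hx, e⟩
  have hV := W7Hull.isFinLocFree_homSh hBl hAl
  have hVr := rank_of_isFinLocFree (LocFree.isQCoh_of_isFinLocFree hV) hV
  have h1 : Subsingleton (Coh.HH X (RefHull.homSh T.X₃ T.X₁) 1) := by
    by_contra hn
    obtain ⟨Q, p, hQ, hp, hdQ⟩ := exists_hom_deg_le k hdim hX h0 hVr hn
    obtain ⟨f, hf⟩ := exists_hom_tensor hBl p hp
    exact hf (hom0 Q hQ hdQ f)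
  haveI := W7Hull.hasSheafHom_sch T.X₃
  haveI : (RefFun.homFunctor T.X₃).PreservesEpimorphisms := ⟨fun {G G'} φ _ => W7Hull.epi_homMap hBl φ⟩
  haveI : (RefFun.homFunctor T.X₃).Additive := (W7Hull.homShAdj T.X₃).right_adjoint_additive
  haveI : PreservesFiniteLimits (RefFun.homFunctor T.X₃) :=
    haveI : PreservesLimitsOfSize.{0, 0} (RefFun.homFunctor T.X₃) := (W7Hull.homShAdj T.X₃).rightAdjoint_preservesLimits
    inferInstance
  haveI := Functor.preservesHomology_of_preservesEpis_and_kernels (RefFun.homFunctor T.X₃)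
  haveI := Functor.preservesFiniteColimits_of_preservesHomology (RefFun.homFunctor T.X₃)
  have hS := hT.map_of_exact (RefFun.homFunctor T.X₃)
  have hs : Function.Surjective (((RefFun.homFunctor T.X₃).map T.g).app ⊤) := by
    rw [← surjective_hh0_iff (k := k)]
    exact fun x => (δH_eq_zero_iff (shortExact_toAb hS) 0 x).1 (h1.elim _ _)
  let one : Coh.structureModule X ⟶ (RefFun.homFunctor T.X₃).obj T.X₃ := W7Hull.cur (SecTwist.unitorR T.X₃).hom
  obtain ⟨t, ht⟩ := hs (TMul.val one ⊤)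
  have hσ : homOf t ≫ (RefFun.homFunctor T.X₃).map T.g = one := TMul.hom_ext_val (by
    show ((RefFun.homFunctor T.X₃).map T.g).app ⊤ (TMul.val (homOf t) ⊤) = _
    rw [val_homOf, res_self, ht])
  refine IsSplitEpi.mk' ⟨(SecTwist.unitorR T.X₃).inv ≫ W7Hull.uncur (homOf t), ?_⟩
  have h := (W7Hull.homShAdj T.X₃).homEquiv_naturality_right_symm (homOf t) T.g
  rw [hσ] at h
  rw [W7Hull.homShAdj, Adjunction.mkOfHomEquiv_homEquiv] at h
  change W7Hull.curEquiv.symm (W7Hull.curEquiv (SecTwist.unitorR T.X₃).hom) = W7Hull.uncur (homOf t) ≫ T.g at h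
  rw [Equiv.symm_apply_apply] at h
  rw [Category.assoc, ← h, Iso.inv_hom_id]

variable (k) in
/-- No nonzero maps to twists of degree `≤ 0` of a module of smaller slope, both semistable. -/
theorem hom_eq_zero_of_slope (hX : RegCurve X) {A B Q : X.Modules} {a b : ℕ}
    (hA : FlatMod.IsFinLocFreeOfRank a A) (hB : FlatMod.IsFinLocFreeOfRank b B) (hQ : PicF.IsInvertible Q)
    (hdQ : Curv2.deg k X Q 1 ≤ 0) (hAss : ModFun.IsSlopeSemistable k X A a)
    (hBss : ModFun.IsSlopeSemistable k X B b)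
    (hlt : Curv2.deg k X B b * (a : ℤ) < Curv2.deg k X A a * (b : ℤ)) (f : A ⟶ CohB1.tensorMod B Q) : f = 0 := by
  haveI := isNoetherian_of_proper k X
  by_contra hf
  obtain ⟨Q', hQ', ⟨e⟩⟩ := W7Hull.exists_tensor_inverse hQ
  have hdQ' : Curv2.deg k X Q' 1 = -Curv2.deg k X Q 1 := by
    have h := deg_twist (k := k) hX.dim (isFinLocFreeOfRank_one hQ) hQ'
    rw [deg_iso (k := k) e, deg_structure] at h
    push_cast at h
    omega
  have hd := deg_twist (k := k) hX.dim hB hQ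
  have hBQ : ModFun.IsSlopeSemistable k X (CohB1.tensorMod B Q) b := by
    intro G n i hi hn hG
    haveI := mono_tmap hQ' i
    have h := hBss (CohB1.tensorMod G Q') n (tmap i Q' ≫ (untw e B).hom) (mono_comp _ _) hn (rank_tensor_inv hG hQ')
    rw [deg_twist (k := k) hX.dim hG hQ', hdQ'] at h
    rw [hd]
    linear_combination h
  have h := slope_le_of_hom k hX hA (rank_tensor_inv hB hQ) hAss hBQ f hf
  rw [hd] at h
  nlinarith [mul_nonpos_of_nonneg_of_nonpos (mul_nonneg (Int.natCast_nonneg b) (Int.natCast_nonneg a)) hdQ]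

variable (k) in
/-- No nonzero maps from the maximal destabilising submodule to twists of degree `≤ 0` of the quotient. -/
theorem hom_coker_twist_eq_zero (hX : RegCurve X) {E E₁ Q : X.Modules} {r r₁ : ℕ}
    (hE : FlatMod.IsFinLocFreeOfRank r E) (hr₁ : 0 < r₁) (hE₁ : FlatMod.IsFinLocFreeOfRank r₁ E₁) (i₁ : E₁ ⟶ E)
    [Mono i₁]
    (hmax : ∀ (G : X.Modules) (n : ℕ) (j : G ⟶ E), Mono j → 0 < n → FlatMod.IsFinLocFreeOfRank n G →
      Curv2.deg k X G n * (r₁ : ℤ) ≤ Curv2.deg k X E₁ r₁ * (n : ℤ))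
    (hmax' : ∀ (G : X.Modules) (n : ℕ) (j : G ⟶ E), Mono j → 0 < n → FlatMod.IsFinLocFreeOfRank n G →
      Curv2.deg k X G n * (r₁ : ℤ) = Curv2.deg k X E₁ r₁ * (n : ℤ) → n ≤ r₁)
    (hQ : PicF.IsInvertible Q) (hdQ : Curv2.deg k X Q 1 ≤ 0) (f : E₁ ⟶ CohB1.tensorMod (cokernel i₁) Q) :
    f = 0 := by
  haveI := isNoetherian_of_proper k X
  obtain ⟨m, hC, -, -⟩ := isFinLocFree_coker_of_max k hX hE hE₁ i₁ fun P ι hι hP =>
    le_of_mul_le_mul_right (hmax P r₁ ι hι hr₁ hP) (by exact_mod_cast hr₁)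
  by_contra hne
  obtain ⟨I, p, q, hp, hq, hfac, hI, hK, hrk, -, hd, hpos⟩ := exists_image k hX hE₁ (rank_tensor_inv hC hQ) f
  obtain ⟨Q', hQ', ⟨e⟩⟩ := W7Hull.exists_tensor_inverse hQ
  haveI := mono_tmap hQ' q
  let j : CohB1.tensorMod I Q' ⟶ cokernel i₁ := tmap q Q' ≫ (untw e (cokernel i₁)).hom
  haveI : Mono j := mono_comp _ _
  have hdQ' : Curv2.deg k X Q' 1 = -Curv2.deg k X Q 1 := by
    have h := deg_twist (k := k) hX.dim (isFinLocFreeOfRank_one hQ) hQ'
    rw [deg_iso (k := k) e, deg_structure] at h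
    push_cast at h
    omega
  have hd2 := deg_twist (k := k) hX.dim hI hQ'
  rw [hdQ'] at hd2
  obtain ⟨P, ι, hι, hP, hdP⟩ := exists_preimage_coker k hX hE hE₁ i₁ j (rank_tensor_inv hI hQ')
  have hKle : Curv2.deg k X (kernel f) (grk (kernel f)) * (r₁ : ℤ) ≤ Curv2.deg k X E₁ r₁ * (grk (kernel f) : ℤ) := by
    rcases Nat.eq_zero_or_pos (grk (kernel f)) with h0 | h0
    · rw [h0] at hK ⊢
      simp [deg_rank_zero k hK]
    exact hmax _ _ (kernel.ι f ≫ i₁) (mono_comp _ _) h0 hK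
  have h1 := hmax P _ ι hι (by omega) hP
  have hr' : (r₁ : ℤ) = (grk (kernel f) : ℤ) + (grk I : ℤ) := by exact_mod_cast hrk
  have hnp := mul_nonpos_of_nonneg_of_nonpos
    (mul_nonneg (Int.natCast_nonneg (grk I)) (Int.natCast_nonneg r₁)) hdQ
  rw [hdP, hd2] at h1
  push_cast at h1
  rw [hd, hr'] at hKle h1
  rw [hr'] at hnp
  have h2 := hmax' P _ ι hι (by omega) hP (by
    rw [hdP, hd2]
    push_cast
    rw [hd, hr']
    linarith)
  have := hpos hne
  omega

end Groth.Agent.HNSplit
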