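import Groth.Agent.HNSplit.Main
import Groth.Agent.SerrePn.HomExact
import Groth.Agent.CurveRR.Multi2

/-!
# Degree of duals and of sheaf Homs of bundles on curves
-/

set_option autoImplicit false
set_option linter.style.haveILetI false
set_option linter.unusedSectionVars false
set_option backward.isDefEq.respectTransparency false
set_option backward.isDefEq.respectTransparency.types false

universe u

open CategoryTheory CategoryTheory.Limits AlgebraicGeometry TopologicalSpace Opposite
open Groth.Agent.CurveRR Groth.Agent.W7Slope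
open Groth.Agent.WeakAssLib (mgerm)
open Groth.Agent.CohFinite (tmap tmap_comp tmap_zero finite_proper)

noncomputable section

namespace Groth.Agent.HNSplit

theorem isFinLocFree_of_rank {X : Scheme.{u}} {n : ℕ} {E : X.Modules} (hE : FlatMod.IsFinLocFreeOfRank n E) :
    FlatMod.IsFinLocFree E := fun x => by
  obtain ⟨U, hx, e⟩ := hE x
  exact ⟨U, n, hx, e⟩

/-- Dualising a short exact sequence of bundles is exact at the end. -/
theorem epi_homComap {X : Scheme.{u}} [IsLocallyNoetherian X] {S : ShortComplex X.Modules} (hS : S.ShortExact)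
    (h₁ : FlatMod.IsFinLocFree S.X₁) (h₂ : FlatMod.IsFinLocFree S.X₂) (h₃ : FlatMod.IsFinLocFree S.X₃)
    (G : X.Modules) : Epi (RefFun.homComap S.f G) := by
  haveI := hS.mono_f
  haveI := hS.epi_g
  refine SerrePn.epi_of_stalk_surjective _ fun x => SerrePn.surjective_homComap_stalk
    (LocFree.isFP_of_isFinLocFree h₂) (LocFree.isFP_of_isFinLocFree h₁) S.f G x fun b => ?_
  haveI := LocFree.free_stalk_of_isFinLocFree h₃ x
  have hinj : Function.Injective (RefHull.stalkMapₗ S.f x) :=
    (ModuleCat.mono_iff_injective _).1 (inferInstance : Mono ((DerSch.stalkFunctor X x).map S.f))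
  obtain ⟨σ, hσ⟩ := Module.projective_lifting_property (RefHull.stalkMapₗ S.g x) LinearMap.id
    (SerrePn.stalk_surjective_of_epi S.g x)
  let π : S.X₂.presheaf.stalk x →ₗ[X.presheaf.stalk x] S.X₂.presheaf.stalk x :=
    LinearMap.id - σ.comp (RefHull.stalkMapₗ S.g x)
  have hπ : ∀ v, π v ∈ LinearMap.range (RefHull.stalkMapₗ S.f x) := fun v => by
    refine WeakAssLib.stalk_exact S hS x (π v) ?_
    show RefHull.stalkMapₗ S.g x (v - σ (RefHull.stalkMapₗ S.g x v)) = 0
    rw [map_sub, show RefHull.stalkMapₗ S.g x (σ (RefHull.stalkMapₗ S.g x v)) = RefHull.stalkMapₗ S.g x v from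
      LinearMap.congr_fun hσ _, sub_self]
  let e := LinearEquiv.ofInjective _ hinj
  refine ⟨b.comp (e.symm.toLinearMap.comp (π.codRestrict _ hπ)), LinearMap.ext fun w => ?_⟩
  show b (e.symm ⟨π (RefHull.stalkMapₗ S.f x w), _⟩) = b w
  congr 1
  refine e.injective (Subtype.ext ?_)
  rw [e.apply_symm_apply]
  show RefHull.stalkMapₗ S.f x w - σ (RefHull.stalkMapₗ S.g x (RefHull.stalkMapₗ S.f x w)) = RefHull.stalkMapₗ S.f x w
  have h0 : RefHull.stalkMapₗ S.g x (RefHull.stalkMapₗ S.f x w) = 0 := by
    obtain ⟨U, hU, t, rfl⟩ := TopCat.Presheaf.exists_germ_eq S.X₁.presheaf w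
    rw [RefHull.stalkMapₗ_germ, RefHull.stalkMapₗ_germ]
    show mgerm S.X₃ hU ((S.f ≫ S.g).app U t) = 0
    rw [S.zero]
    exact map_zero _
  rw [h0, map_zero, sub_zero]

variable {k : Type u} [Field k] {X : Scheme.{u}} [X.Over (Spec (CommRingCat.of k))]
  [IsProper (X ↘ Spec (CommRingCat.of k))] [IsIntegral X]

variable (k) in
include k in
/-- A bundle of rank at least two has a line subbundle with locally free quotient. -/
theorem exists_line_sub (hdim : topologicalKrullDim X = 1) (hX : RegCurve X) {E : X.Modules} {r : ℕ} (hr : 2 ≤ r)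
    (hE : FlatMod.IsFinLocFreeOfRank r E) :
    ∃ S : ShortComplex X.Modules, S.X₂ = E ∧ S.ShortExact ∧ FlatMod.IsFinLocFreeOfRank 1 S.X₁ ∧
      FlatMod.IsFinLocFreeOfRank (r - 1) S.X₃ := by
  haveI := isNoetherian_of_proper k X
  obtain ⟨N, φ, hN, hφ, -⟩ := exists_killed_hom (X := X) k hdim hX hr hE 0
  obtain ⟨I, p, i, hp, hi, hfac, hI, -, hrk, -, -, hpos⟩ := exists_image k hX hN hE φ
  obtain ⟨G', Q, i', l, q, w, hS, -, -, hG', hQ, hrq, -, -, -⟩ := exists_saturation k hX hE (isCoh_of_rank hI) i
  have := hpos hφ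
  have hI1 : grk I = 1 := by omega
  rw [hI1] at hG' hrq
  exact ⟨ShortComplex.mk i' q w, rfl, hS, hG', (show grk Q = r - 1 by omega) ▸ hQ⟩

variable (k) in
/-- The dual has the same rank and opposite degree. -/
theorem rank_deg_dual (hdim : topologicalKrullDim X = 1) (hX : RegCurve X) :
    ∀ (r : ℕ), 0 < r → ∀ {E : X.Modules}, FlatMod.IsFinLocFreeOfRank r E →
      FlatMod.IsFinLocFreeOfRank r (RefHull.dual E) ∧
        Curv2.deg k X (RefHull.dual E) r = -Curv2.deg k X E r := by
  haveI := isNoetherian_of_proper k X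
  intro r
  induction r using Nat.strong_induction_on with
  | _ r ih =>
    intro hr E hE
    rcases Nat.lt_or_ge r 2 with h1 | h2
    · obtain rfl : r = 1 := by omega
      have hEi := ZeroSch.isInvertible_of_rankOne hE
      have hD := W7Hull.isInvertible_dual hEi
      haveI := W7Hull.isIso_evDual hEi
      refine ⟨isFinLocFreeOfRank_one hD, ?_⟩
      have h := deg_twist (k := k) hX.dim hE hD
      rw [deg_iso (k := k) (asIso (W7Hull.evDual E)), deg_structure] at h
      push_cast at h
      omega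
    obtain ⟨S, rfl, hS, h₁, h₃⟩ := exists_line_sub k hdim hX h2 hE
    have hDl := ResDesc.isFinLocFree_dual (isFinLocFree_of_rank hE)
    haveI := epi_homComap hS (isFinLocFree_of_rank h₁) (isFinLocFree_of_rank hE) (isFinLocFree_of_rank h₃)
      (Coh.structureModule X)
    have hS' := SerrePn.shortExact_homSeq hS (Coh.structureModule X)
    obtain ⟨a₁, b₁⟩ := ih 1 (by omega) one_pos h₁
    obtain ⟨a₃, b₃⟩ := ih (r - 1) (by omega) (by omega) h₃
    have hDc : Coh.IsCoh (RefHull.dual S.X₂) :=
      ⟨LocFree.isQCoh_of_isFinLocFree hDl, LocFree.isFT_of_isFinLocFree hDl⟩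
    have hD := rank_of_isFinLocFree hDc.1 hDl
    have hg := grk_add hS' hDc
    change grk (RefHull.dual S.X₂) = grk (RefHull.dual S.X₃) + grk (RefHull.dual S.X₁) at hg
    rw [grk_of_rank a₁, grk_of_rank a₃] at hg
    have hgr : grk (RefHull.dual S.X₂) = r := by omega
    rw [hgr] at hD
    refine ⟨hD, ?_⟩
    have hd := cdeg_add (k := k) hS' (isCoh_of_rank a₃) hDc (isCoh_of_rank a₁)
    change cdeg k (RefHull.dual S.X₂) = cdeg k (RefHull.dual S.X₃) + cdeg k (RefHull.dual S.X₁) at hd
    have he := cdeg_add (k := k) hS (isCoh_of_rank h₁) (isCoh_of_rank hE) (isCoh_of_rank h₃)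
    rw [deg_eq a₁, deg_eq h₁] at b₁
    rw [deg_eq a₃, deg_eq h₃] at b₃
    rw [deg_eq hD, deg_eq hE]
    omega

variable (k) in
/-- Rank and degree of a sheaf Hom of bundles. -/
theorem rank_deg_homSh (hdim : topologicalKrullDim X = 1) (hX : RegCurve X) {A B : X.Modules} {a b : ℕ}
    (hb : 0 < b) (hA : FlatMod.IsFinLocFreeOfRank a A) (hB : FlatMod.IsFinLocFreeOfRank b B) :
    FlatMod.IsFinLocFreeOfRank (b * a) (RefHull.homSh B A) ∧
      Curv2.deg k X (RefHull.homSh B A) (b * a) =
        (b : ℤ) * Curv2.deg k X A a - (a : ℤ) * Curv2.deg k X B b := by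
  haveI := isNoetherian_of_proper k X
  obtain ⟨hD, hdD⟩ := rank_deg_dual k hdim hX b hb hB
  haveI := ExtShX.isIso_dualTensorTo (isFinLocFree_of_rank hB) A
  let e := asIso (ExtShX.dualTensorTo B A)
  have hV := W7Hull.isFinLocFree_homSh (isFinLocFree_of_rank hB) (isFinLocFree_of_rank hA)
  have hVr := rank_of_isFinLocFree (LocFree.isQCoh_of_isFinLocFree hV) hV
  have hd := Multi.deg_tensor (k := k) hX.dim b a (RefHull.dual B) A hD hA
  rw [deg_iso (k := k) e, hdD] at hd
  have hg : grk (RefHull.homSh B A) = b * a := by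
    letI : Field (X.presheaf.stalk (genericPoint X)) := inferInstanceAs (Field X.functionField)
    haveI := RegDual.finite_stalk (isCoh_of_rank hB) (genericPoint X)
    haveI := RegDual.finite_stalk (isCoh_of_rank hA) (genericPoint X)
    let ev := LinearEquiv.ofBijective (RefHull.evalStalk B A (genericPoint X))
      (RefStalk.evalStalk_bijective (LocFree.isFP_of_isFinLocFree (isFinLocFree_of_rank hB)) (genericPoint X))
    rw [grk, ev.finrank_eq]
    show Module.finrank (X.presheaf.stalk (genericPoint X))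
      (B.presheaf.stalk (genericPoint X) →ₗ[X.presheaf.stalk (genericPoint X)] A.presheaf.stalk (genericPoint X)) = _
    rw [Module.finrank_linearMap]
    show grk B * grk A = b * a
    rw [grk_of_rank hB, grk_of_rank hA]
  rw [hg] at hVr
  refine ⟨hVr, ?_⟩
  rw [hd]
  ring

end Groth.Agent.HNSplit
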