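import Groth.Agent.HNSplit.Embed
import Groth.Agent.CurveRR.RatPoint
import Groth.Agent.CurveRR.TmapR

/-!
# Slopes of submodules of tensor products in genus one
-/

set_option autoImplicit false
set_option linter.style.haveILetI false
set_option linter.unusedSectionVars false
set_option backward.isDefEq.respectTransparency false
set_option backward.isDefEq.respectTransparency.types false

universe u

open CategoryTheory CategoryTheory.Limits AlgebraicGeometry TopologicalSpace Opposite
open Groth.Agent.CurveRR Groth.Agent.CohFinite Groth.Agent.W7Slope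
open TMul (homOf val_homOf)
open Groth.Agent.QC (res res_self)

noncomputable section

namespace Groth.Agent.HNSplit

attribute [local instance] Abelian.hasFiniteBiproducts

variable {k : Type u} [Field k] {X : Scheme.{u}} [X.Over (Spec (CommRingCat.of k))]
  [IsProper (X ↘ Spec (CommRingCat.of k))] [IsIntegral X]

variable (k) in
/-- Invertible modules of every degree from a rational point. -/
theorem exists_deg_of_point (hdim : topologicalKrullDim X = 1) (hX : RegCurve X)
    (O : Spec (CommRingCat.of k) ⟶ X) (hO : O ≫ (X ↘ Spec (CommRingCat.of k)) = 𝟙 _) (m : ℤ) :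
    ∃ L : X.Modules, PicF.IsInvertible L ∧ Curv2.deg k X L 1 = m := by
  haveI := isNoetherian_of_proper k X
  haveI : IsClosedImmersion (O ≫ (X ↘ Spec (CommRingCat.of k))) := by rw [hO]; infer_instance
  haveI : IsClosedImmersion O := IsClosedImmersion.of_comp O (X ↘ Spec (CommRingCat.of k))
  haveI : Unique (Spec (CommRingCat.of k)) := inferInstanceAs (Unique (PrimeSpectrum k))
  have hP : IsClosed ({O default} : Set X) := by
    have h := O.isClosedEmbedding.isClosed_range
    rwa [Set.range_unique] at h
  have hI := isInvertible_pointIdeal hX.dim hP (genericPoint_ne_of_closed (k := k) hdim hP) (hX.reg (O default))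
  have hdI : Curv2.deg k X (ClSub.idealMod (Scheme.IdealSheafData.vanishingIdeal ⟨{O default}, hP⟩)) 1 = -1 := by
    have h := euler_ratPointIdeal (k := k) hP O hO (fun p => congrArg _ (Unique.eq_default p))
      (TMul.isInvertible_structureModule (X := X))
    rw [euler_eq_of_iso (TMul.commIso _ _), euler_eq_of_iso (TMul.leftUnitIso _)] at h
    rw [Curv2.deg, h]; push_cast; ring
  obtain ⟨L', hL', ⟨e⟩⟩ := W7Hull.exists_tensor_inverse hI
  have hdL' : Curv2.deg k X L' 1 = 1 := by
    have h := deg_tensor_inv (k := k) hX.dim hI hL'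
    rw [deg_iso (k := k) e, deg_structure, hdI] at h
    omega
  rcases m.natAbs_eq with hm | hm
  · refine ⟨CohB1.tensorPow L' m.natAbs, TMul.isInvertible_tensorPow hL' _, ?_⟩
    rw [deg_tensorPow (k := k) hX.dim hL', hdL']
    omega
  · refine ⟨CohB1.tensorPow _ m.natAbs, TMul.isInvertible_tensorPow hI _, ?_⟩
    rw [deg_tensorPow (k := k) hX.dim hI, hdI]
    omega

variable (k) in
/-- A bundle with jointly injective maps to a semistable bundle has no bigger slope. -/
theorem slope_le_of_joint (hX : RegCurve X) {B : X.Modules} {b : ℕ} (hB : FlatMod.IsFinLocFreeOfRank b B)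
    (hBss : ModFun.IsSlopeSemistable k X B b) {ι : Type} :
    ∀ (t : ℕ) (G : X.Modules) (g : ι → (G ⟶ B)), FlatMod.IsFinLocFreeOfRank t G →
      (∀ (W : X.Modules) (x : W ⟶ G), (∀ i, x ≫ g i = 0) → x = 0) →
      Curv2.deg k X G t * (b : ℤ) ≤ Curv2.deg k X B b * (t : ℤ) := by
  haveI := isNoetherian_of_proper k X
  intro t
  induction t using Nat.strong_induction_on with
  | _ t ih =>
    intro G g hG hj
    rcases Nat.eq_zero_or_pos t with rfl | ht
    · simp [deg_rank_zero k hG]
    obtain ⟨i, hi⟩ : ∃ i, g i ≠ 0 := by
      by_contra! h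
      exact pos_rank_not_isZero k ht hG ((IsZero.iff_id_eq_zero _).2 (hj G (𝟙 G) fun i => by rw [h i, comp_zero]))
    obtain ⟨I, p, q, -, hq, -, hI, hK, hrk, -, hd, hpos⟩ := exists_image k hX hG hB (g i)
    have := hpos hi
    have h1 := ih (grk (kernel (g i))) (by omega) (kernel (g i)) (fun j => kernel.ι (g i) ≫ g j) hK fun W x hx => by
      rw [← cancel_mono (kernel.ι (g i)), zero_comp]
      exact hj W _ fun j => by rw [Category.assoc]; exact hx j
    have h2 := sub_le k hBss q hI
    rw [hd, show (t : ℤ) = (grk (kernel (g i)) : ℤ) + (grk I : ℤ) by exact_mod_cast hrk]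
    linarith

end Groth.Agent.HNSplit
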