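import Groth.Agent.HNSplit.Stable
import Groth.Agent.W7Slope.H0Bound
import Groth.Agent.W7Proj.NegAffine
import Groth.Agent.Higgs.Secant

/-!
# Embedding semistable bundles into sums of a line bundle in genus one
-/

set_option autoImplicit false
set_option linter.style.haveILetI false
set_option linter.unusedSectionVars false
set_option backward.isDefEq.respectTransparency false
set_option backward.isDefEq.respectTransparency.types false

universe u

open CategoryTheory CategoryTheory.Limits AlgebraicGeometry TopologicalSpace Opposite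
open Groth.Agent.CurveRR Groth.Agent.CohFinite Groth.Agent.W7Slope
open TMul (homOf val_homOf)
open Groth.Agent.QC (res res_self)

noncomputable section

namespace Groth.Agent.HNSplit

attribute [local instance] Abelian.hasFiniteBiproducts

variable {k : Type u} [Field k] {X : Scheme.{u}} [X.Over (Spec (CommRingCat.of k))]
  [IsProper (X ↘ Spec (CommRingCat.of k))] [IsIntegral X]

variable (k) in
include k in
/-- A nonzero map out of an invertible module into a bundle is a monomorphism. -/
theorem mono_of_line (hX : RegCurve X) {L E : X.Modules} {r : ℕ} (hL : PicF.IsInvertible L)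
    (hE : FlatMod.IsFinLocFreeOfRank r E) (f : L ⟶ E) (hf : f ≠ 0) : Mono f := by
  haveI := isNoetherian_of_proper k X
  obtain ⟨I, p, i, -, -, -, -, hK, hrk, -, -, hpos⟩ := exists_image k hX (isFinLocFreeOfRank_one hL) hE f
  have := hpos hf
  rw [show grk (kernel f) = 0 by omega] at hK
  exact Preadditive.mono_of_isZero_kernel _ (isZero_of_rank_zero hK)

/-- The morphism named by a section of a sheaf Hom. -/
def toHom {F G : X.Modules} (s : Coh.structureModule X ⟶ RefHull.homSh F G) : F ⟶ G :=
  (SecTwist.unitorR F).inv ≫ W7Hull.uncur s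

theorem toHom_eq_zero_iff {F G : X.Modules} (s : Coh.structureModule X ⟶ RefHull.homSh F G) :
    toHom s = 0 ↔ s = 0 := by
  refine ⟨fun h => W7Hull.curEquiv.symm.injective ?_, fun h => by rw [toHom, h, uncur_zero, comp_zero]⟩
  show W7Hull.uncur s = W7Hull.uncur 0
  rw [uncur_zero, ← cancel_epi (SecTwist.unitorR F).inv, comp_zero]
  exact h

theorem toHom_comap {F F' G : X.Modules} (ψ : F' ⟶ F) (s : Coh.structureModule X ⟶ RefHull.homSh F G) :
    toHom (s ≫ RefFun.homComap ψ G) = ψ ≫ toHom s := by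
  have h1 : W7Hull.uncur (s ≫ RefFun.homComap ψ G) = tmap ψ (Coh.structureModule X) ≫ W7Hull.uncur s :=
    TMul.hom_ext fun U a m => RefStalk.germ_ext fun y hy => by
      refine (W7Hull.uncur_tm (s ≫ RefFun.homComap ψ G) a m hy).trans ?_
      show _ = WeakAssLib.mgerm G hy ((W7Hull.uncur s).app U ((tmap ψ (Coh.structureModule X)).app U (TMul.tm a m)))
      rw [tmap_tm, W7Hull.uncur_tm]
      exact congrArg _ (RefHull.stalkMapₗ_germ ψ y hy a)
  rw [toHom, toHom, h1, ← Category.assoc, ← Category.assoc]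
  congr 1
  rw [Iso.inv_comp_eq, ← Category.assoc, Iso.eq_comp_inv]
  exact TMul.hom_ext fun U a m => by
    show (SecTwist.unitorR F).hom.app U ((tmap ψ (Coh.structureModule X)).app U (TMul.tm a m)) =
      ψ.app U ((SecTwist.unitorR F').hom.app U (TMul.tm a m))
    rw [tmap_tm, ResDesc.unitorR_tm, ResDesc.unitorR_tm, TMul.app_smul]

variable (k) in
/-- An invertible module of degree `≤ 0` has at most a line of sections. -/
theorem h0_le_one (hX : RegCurve X) (h0 : CurveRR.h k (Coh.structureModule X) 0 = 1) {L : X.Modules}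
    (hL : PicF.IsInvertible L) (hd : Curv2.deg k X L 1 ≤ 0) : CurveRR.h k L 0 ≤ 1 := by
  by_contra h
  obtain ⟨s, hs⟩ := exists_section (k := k) (L := L) (by omega)
  obtain ⟨e⟩ := nonempty_iso_of_section (k := k) hX.dim hL s hs hd
  rw [h_eq_of_iso e (q := 0), h0] at h
  exact h le_rfl

variable (k) in
/-- Sections of `ℋom(I, L)` for quotients `I` of a semistable bundle. -/
theorem h0_hom_quot_le (hdim : topologicalKrullDim X = 1) (hX : RegCurve X)
    (h0 : CurveRR.h k (Coh.structureModule X) 0 = 1) (hg : Curv2.genus k X = 1) {F L : X.Modules} {r : ℕ}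
    (hr : 0 < r) (hF : FlatMod.IsFinLocFreeOfRank r F) (hFss : ModFun.IsSlopeSemistable k X F r)
    (hL : PicF.IsInvertible L) (hdeg : Curv2.deg k X F r < (Curv2.deg k X L 1 - 1) * (r : ℤ)) :
    ∀ (t : ℕ) (I : X.Modules) (π : F ⟶ I), Epi π → FlatMod.IsFinLocFreeOfRank t I →
      (CurveRR.h k (RefHull.homSh I L) 0 : ℤ) * r ≤
        (Curv2.deg k X L 1 * r - Curv2.deg k X F r) * (t : ℤ) := by
  haveI := isNoetherian_of_proper k X
  intro t
  induction t using Nat.strong_induction_on with
  | _ t ih =>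
    intro I π hπ hI
    rcases Nat.eq_zero_or_pos t with rfl | ht
    · have hz := isZero_of_rank_zero hI
      have h : CurveRR.h k (RefHull.homSh I L) 0 = 0 := by
        by_contra hne
        obtain ⟨s, hs⟩ := exists_section (k := k) hne
        exact hs ((toHom_eq_zero_iff s).1 (hz.eq_of_src _ _))
      rw [h]; simp
    obtain ⟨hW, hdW⟩ := rank_deg_homSh k hdim hX ht (isFinLocFreeOfRank_one hL) hI
    have hsl : Curv2.deg k X F r * (t : ℤ) ≤ Curv2.deg k X I t * (r : ℤ) := by
      have hS := shortExact_ker π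
      have hg' := grk_add hS (isCoh_of_rank hF)
      change grk F = grk (kernel π) + grk I at hg'
      rw [grk_of_rank hF, grk_of_rank hI] at hg'
      have hK := isFinLocFree_sub k hX (kernel.ι π) (isCoh_kernel k (isCoh_of_rank hF) (isCoh_of_rank hI) π) hF
      have hd := Easy.deg_add (k := k) _ hS hK hF hI hg'
      have := sub_le k hFss (kernel.ι π) hK
      rw [hd] at this ⊢
      have e : (r : ℤ) = (grk (kernel π) : ℤ) + t := by exact_mod_cast hg'
      rw [e] at this ⊢
      linarith
    by_cases h1 : Subsingleton (Coh.HH X (RefHull.homSh I L) 1)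
    · have he : (CurveRR.h k (RefHull.homSh I L) 0 : ℤ) = (t : ℤ) * Curv2.deg k X L 1 - Curv2.deg k X I t := by
        rw [Curv2.deg, euler_structure hX.dim h0, hg, euler_eq hX.dim, show CurveRR.h k (RefHull.homSh I L) 1 = 0 from h_eq_zero h1] at hdW
        push_cast at hdW ⊢
        linarith
      rw [he]
      linarith
    obtain ⟨Q, q, hQ, hq, hdQ⟩ := exists_hom_deg_le k hdim hX h0 hW h1
    rw [hg] at hdQ
    obtain ⟨f, hf⟩ := exists_hom_tensor (isFinLocFree_of_rank hI) q hq
    obtain ⟨Q', hQ', ⟨e⟩⟩ := W7Hull.exists_tensor_inverse hQ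
    have hdQ' : Curv2.deg k X Q' 1 = -Curv2.deg k X Q 1 := by
      have h := deg_twist (k := k) hX.dim (isFinLocFreeOfRank_one hQ) hQ'
      rw [deg_iso (k := k) e, deg_structure] at h
      push_cast at h
      omega
    haveI := mono_of_line k hX hL (rank_tensor_inv hI hQ) f hf
    haveI := mono_tmap hQ' f
    let j : CohB1.tensorMod L Q' ⟶ I := tmap f Q' ≫ (untw e I).hom
    haveI : Mono j := mono_comp _ _
    have hN₀ := rank_tensor_inv (isFinLocFreeOfRank_one hL) hQ'
    obtain ⟨N, I', i, l, p, w, hS, -, -, hN, hI', hrq, hle, -, -⟩ := exists_saturation k hX hI (isCoh_of_rank hN₀) j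
    rw [grk_of_rank hN₀] at hN hrq
    rw [← deg_eq hN₀, ← deg_eq hN, deg_twist (k := k) hX.dim (isFinLocFreeOfRank_one hL) hQ', hdQ'] at hle
    haveI := hS.epi_g
    have hIH := ih (grk I') (by omega) I' (π ≫ p) (epi_comp _ _) hI'
    haveI := epi_homComap hS (isFinLocFree_of_rank hN) (isFinLocFree_of_rank hI) (isFinLocFree_of_rank hI') L
    have hSh := SerrePn.shortExact_homSeq hS L
    obtain ⟨hV, hdV⟩ := rank_deg_homSh k hdim hX one_pos (isFinLocFreeOfRank_one hL) hN
    have hN1 : CurveRR.h k (RefHull.homSh N L) 0 ≤ 1 :=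
      h0_le_one k hX h0 (ZeroSch.isInvertible_of_rankOne hV) (by
        change Curv2.deg k X (RefHull.homSh N L) 1 = _ at hdV
        rw [hdV]
        push_cast at hdQ hle ⊢
        omega)
    have hadd := h0_le_add (k := k) hSh (RefStalk.isCoh_homSh (isCoh_of_rank hI') (isCoh_of_inv hL))
      (RefStalk.isCoh_homSh (isCoh_of_rank hI) (isCoh_of_inv hL))
      (RefStalk.isCoh_homSh (isCoh_of_rank hN) (isCoh_of_inv hL))
    change CurveRR.h k (RefHull.homSh I L) 0 ≤
      CurveRR.h k (RefHull.homSh I' L) 0 + CurveRR.h k (RefHull.homSh N L) 0 at hadd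
    have hr' : (0 : ℤ) ≤ r := Int.natCast_nonneg r
    have h5 : (CurveRR.h k (RefHull.homSh I L) 0 : ℤ) ≤ CurveRR.h k (RefHull.homSh I' L) 0 + 1 := by omega
    have h6 := mul_le_mul_of_nonneg_right h5 hr'
    have h7 : (t : ℤ) = (grk I' : ℤ) + 1 := by push_cast [hrq]; ring
    rw [h7]
    push_cast at h6 ⊢
    linarith

variable (k) in
/-- A semistable bundle embeds into copies of a line bundle of large degree. -/
theorem exists_mono_copies (hdim : topologicalKrullDim X = 1) (hX : RegCurve X)
    (h0 : CurveRR.h k (Coh.structureModule X) 0 = 1) (hg : Curv2.genus k X = 1) {F L : X.Modules} {r : ℕ}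
    (hr : 0 < r) (hF : FlatMod.IsFinLocFreeOfRank r F) (hFss : ModFun.IsSlopeSemistable k X F r)
    (hL : PicF.IsInvertible L) (hdeg : Curv2.deg k X F r < (Curv2.deg k X L 1 - 1) * (r : ℤ)) :
    ∃ (M : ℕ), 0 < M ∧ ∃ (j : F ⟶ ∐ fun _ : Fin M => L), Mono j := by
  haveI := isNoetherian_of_proper k X
  obtain ⟨hW, hdW⟩ := rank_deg_homSh k hdim hX hr (isFinLocFreeOfRank_one hL) hF
  have hge : Curv2.deg k X L 1 * (r : ℤ) - Curv2.deg k X F r ≤ CurveRR.h k (RefHull.homSh F L) 0 := by
    rw [Curv2.deg, euler_structure hX.dim h0, hg, euler_eq hX.dim] at hdW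
    push_cast at hdW ⊢
    linarith [Int.natCast_nonneg (CurveRR.h k (RefHull.homSh F L) 1)]
  haveI := finite_proper (A := k) X (RefHull.homSh F L) (RefStalk.isCoh_homSh (isCoh_of_rank hF) (isCoh_of_inv hL)) 0
  letI := secMod k (RefHull.homSh F L) ⊤
  haveI : Module.Finite k Γ(RefHull.homSh F L, ⊤) := Module.Finite.equiv (secH0 (k := k) _).symm
  obtain ⟨M, hM⟩ : ∃ M, Module.finrank k Γ(RefHull.homSh F L, ⊤) = M := ⟨_, rfl⟩
  let b := Module.finBasisOfFinrankEq k Γ(RefHull.homSh F L, ⊤) hM
  rw [finrank_sec] at hM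
  have hMpos : 0 < M := by
    by_contra h
    have : (CurveRR.h k (RefHull.homSh F L) 0 : ℤ) = 0 := by omega
    nlinarith
  let Φ : F ⟶ ∐ fun _ : Fin M => L :=
    biproduct.lift (fun i => toHom (homOf (b i))) ≫ (biproduct.isoCoproduct fun _ : Fin M => L).hom
  refine ⟨M, hMpos, Φ, ?_⟩
  have hTl := W7Proj.isFinLocFree_sigma hL M
  have hTr := rank_of_isFinLocFree (LocFree.isQCoh_of_isFinLocFree hTl) hTl
  obtain ⟨I, p, q, hp, hq, hfac, hI, hK, hrk, -, -, -⟩ := exists_image k hX hF hTr Φ
  suffices hfull : r ≤ grk I by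
    rw [show grk (kernel Φ) = 0 by omega] at hK
    exact Preadditive.mono_of_isZero_kernel _ (isZero_of_rank_zero hK)
  have hkill : ∀ s : Coh.structureModule X ⟶ RefHull.homSh F L, kernel.ι p ≫ toHom s = 0 := by
    intro s
    have hΦ : kernel.ι p ≫ Φ = 0 := by rw [← hfac, ← Category.assoc, kernel.condition, zero_comp]
    have hb : ∀ i, kernel.ι p ≫ toHom (homOf (b i)) = 0 := fun i => by
      have h : kernel.ι p ≫ biproduct.lift (fun i => toHom (homOf (b i))) = 0 := by
        rw [← cancel_mono (biproduct.isoCoproduct fun _ : Fin M => L).hom, Category.assoc, zero_comp]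
        exact hΦ
      have h' := congrArg (fun φ => φ ≫ biproduct.π _ i) h
      simpa using h'
    have hs : s = ∑ i, homOf (b i) ≫ scal _ (Coh.toGlobal (X ↘ Spec (CommRingCat.of k)) (b.repr (TMul.val s ⊤) i)) := by
      have hadd : ∀ (f : Fin M → Γ(RefHull.homSh F L, ⊤)), homOf (∑ i, f i) = ∑ i, homOf (f i) := fun f =>
        map_sum (AddMonoidHom.mk' (fun t => homOf (L := RefHull.homSh F L) t) fun x y => TMul.hom_ext_val (by
          show TMul.val (homOf (x + y)) ⊤ = TMul.val (homOf x) ⊤ + TMul.val (homOf y) ⊤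
          rw [val_homOf, val_homOf, val_homOf, map_add])) f Finset.univ
      conv_lhs => rw [show s = homOf (TMul.val s ⊤) from TMul.hom_ext_val (by rw [val_homOf, res_self]),
        ← b.sum_repr (TMul.val s ⊤), hadd]
      exact Finset.sum_congr rfl fun i _ => homOf_cst_smul (k := k) _ _ (b i)
    have hc : s ≫ RefFun.homComap (kernel.ι p) L = 0 := by
      rw [hs, Preadditive.sum_comp]
      refine Finset.sum_eq_zero fun i _ => ?_
      rw [Category.assoc, Higgs.scal_natural, ← Category.assoc,
        show homOf (b i) ≫ RefFun.homComap (kernel.ι p) L = 0 from (toHom_eq_zero_iff _).1 ((toHom_comap _ _).trans (hb i)),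
        zero_comp]
    rw [← toHom_comap, hc]
    exact (toHom_eq_zero_iff _).2 rfl
  have hKp := isFinLocFree_sub k hX (kernel.ι p) (isCoh_kernel k (isCoh_of_rank hF) (isCoh_of_rank hI) p) hF
  haveI := epi_homComap (shortExact_ker p) (isFinLocFree_of_rank hKp) (isFinLocFree_of_rank hF)
    (isFinLocFree_of_rank hI) L
  have hSh := SerrePn.shortExact_homSeq (shortExact_ker p) L
  have hsurj : Function.Surjective ((RefFun.homComap p L).app ⊤) := fun t => by
    have hz : (RefFun.homComap (kernel.ι p) L).app ⊤ t = 0 := by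
      have h := congrArg (fun φ => TMul.val φ ⊤) ((toHom_eq_zero_iff _).1 ((toHom_comap _ _).trans (hkill (homOf t))))
      refine Eq.trans ?_ (h.trans rfl)
      show _ = (RefFun.homComap (kernel.ι p) L).app ⊤ (TMul.val (homOf t) ⊤)
      rw [val_homOf, res_self]
    exact SiteCoh.sections_exact (shortExact_toAb hSh) ⊤ t hz
  rw [← surjective_hh0_iff (k := k)] at hsurj
  haveI := finite_proper (A := k) X (RefHull.homSh I L) (RefStalk.isCoh_homSh (isCoh_of_rank hI) (isCoh_of_inv hL)) 0
  have hle := LinearMap.finrank_range_le (hhMap k (RefFun.homComap p L) 0)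
  rw [LinearMap.range_eq_top.2 hsurj, finrank_top] at hle
  change CurveRR.h k (RefHull.homSh F L) 0 ≤ CurveRR.h k (RefHull.homSh I L) 0 at hle
  have hq := h0_hom_quot_le k hdim hX h0 hg hr hF hFss hL hdeg (grk I) I p hp hI
  have hpos : 0 < Curv2.deg k X L 1 * (r : ℤ) - Curv2.deg k X F r := by
    linarith [Int.natCast_nonneg r]
  have h5 : (Curv2.deg k X L 1 * (r : ℤ) - Curv2.deg k X F r) * (r : ℤ) ≤
      (Curv2.deg k X L 1 * (r : ℤ) - Curv2.deg k X F r) * (grk I : ℤ) := by
    refine le_trans ?_ hq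
    exact mul_le_mul_of_nonneg_right (hge.trans (by exact_mod_cast hle)) (Int.natCast_nonneg r)
  exact_mod_cast le_of_mul_le_mul_left h5 hpos

end Groth.Agent.HNSplit
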