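import Groth.Agent.HNSplit.Dual
import Groth.Agent.VBTwo.Basic
import Groth.Agent.VBTwo.Ext
import Groth.Agent.CurveRR.TmapR

/-!
# Nonsplit extensions of bundles on curves of genus one
-/

set_option autoImplicit false
set_option linter.style.haveILetI false
set_option linter.unusedSectionVars false
set_option backward.isDefEq.respectTransparency false
set_option backward.isDefEq.respectTransparency.types false

universe u

open CategoryTheory CategoryTheory.Limits AlgebraicGeometry TopologicalSpace Opposite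
open Groth.Agent.CurveRR Groth.Agent.CohFinite Groth.Agent.W7Slope
open TMul (homOf val_homOf)
open Groth.Agent.QC (res res_self)

noncomputable section

namespace Groth.Agent.HNSplit

variable {k : Type u} [Field k] {X : Scheme.{u}} [X.Over (Spec (CommRingCat.of k))]
  [IsProper (X ↘ Spec (CommRingCat.of k))] [IsIntegral X]

variable (k) in
/-- Twisting by an invertible module preserves semistability. -/
theorem ss_twist (hX : RegCurve X) {B Q : X.Modules} {b : ℕ} (hB : FlatMod.IsFinLocFreeOfRank b B)
    (hQ : PicF.IsInvertible Q) (hBss : ModFun.IsSlopeSemistable k X B b) :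
    ModFun.IsSlopeSemistable k X (CohB1.tensorMod B Q) b := by
  haveI := isNoetherian_of_proper k X
  obtain ⟨Q', hQ', ⟨e⟩⟩ := W7Hull.exists_tensor_inverse hQ
  have hdQ' : Curv2.deg k X Q' 1 = -Curv2.deg k X Q 1 := by
    have h := deg_twist (k := k) hX.dim (isFinLocFreeOfRank_one hQ) hQ'
    rw [deg_iso (k := k) e, deg_structure] at h
    push_cast at h
    omega
  intro G n i hi hn hG
  haveI := mono_tmap hQ' i
  have h := hBss (CohB1.tensorMod G Q') n (tmap i Q' ≫ (untw e B).hom) (mono_comp _ _) hn (rank_tensor_inv hG hQ')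
  rw [deg_twist (k := k) hX.dim hG hQ', hdQ'] at h
  rw [deg_twist (k := k) hX.dim hB hQ]
  linear_combination h

variable (k) in
/-- A nonsplit extension exists when `χ(ℋom(B, A)) < 0`. -/
theorem exists_nonsplit (hdim : topologicalKrullDim X = 1) (hX : RegCurve X)
    (h0 : CurveRR.h k (Coh.structureModule X) 0 = 1) (hg : Curv2.genus k X = 1) {A B : X.Modules} {a b : ℕ}
    (ha : 0 < a) (hb : 0 < b) (hA : FlatMod.IsFinLocFreeOfRank a A) (hB : FlatMod.IsFinLocFreeOfRank b B)
    (hAss : ModFun.IsSlopeSemistable k X A a) (hBss : ModFun.IsSlopeSemistable k X B b)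
    (hχ : Curv2.euler k X (RefHull.homSh B A) < 0) :
    ∃ (F : X.Modules) (i : A ⟶ F) (p : F ⟶ B) (w : i ≫ p = 0), (ShortComplex.mk i p w).ShortExact ∧
      ¬ IsSplitEpi p ∧ FlatMod.IsFinLocFreeOfRank (a + b) F := by
  haveI := isNoetherian_of_proper k X
  obtain ⟨L₀, hL₀, m, hm1, hm, hdL₀⟩ := exists_deg_neg_large k hdim hX
    (max 1 (Curv2.deg k X B b * (a : ℤ) - Curv2.deg k X A a * (b : ℤ)))
  obtain ⟨L, hL, ⟨eL⟩⟩ := W7Hull.exists_tensor_inverse hL₀
  have hdL : Curv2.deg k X L 1 = (m : ℤ) := by
    have h := deg_twist (k := k) hX.dim (isFinLocFreeOfRank_one hL₀) hL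
    rw [deg_iso (k := k) eL, deg_structure, hdL₀] at h
    push_cast at h
    omega
  obtain ⟨s, hs⟩ := exists_section (k := k) (L := L) (by
    have h := euler_eq (k := k) hX.dim L
    have h' := hdL
    rw [Curv2.deg, euler_structure hX.dim h0, hg] at h'
    push_cast at h'
    omega)
  haveI : Mono s := CurveRR.mono_of_ne_zero TMul.isInvertible_structureModule hL s hs
  have hSs := shortExact_tmapR (hasFrames_of_rank hA)
    (S := ShortComplex.mk s (cokernel.π s) (cokernel.condition s)) { exact := ShortComplex.exact_cokernel s }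
  haveI := hSs.mono_f
  let g₀ : A ⟶ CohB1.tensorMod A L := (TMul.leftUnitIso A).inv ≫ tmap s A ≫ (TMul.commIso L A).hom
  haveI : Mono g₀ := mono_comp _ _
  have hA' := rank_tensor_inv hA hL
  let T := cokernel g₀
  let π := cokernel.π g₀
  have hBl := isFinLocFree_of_rank hB
  haveI := W7Hull.hasSheafHom_sch B
  haveI : (RefFun.homFunctor B).PreservesEpimorphisms := ⟨fun {G G'} φ _ => W7Hull.epi_homMap hBl φ⟩
  haveI : (RefFun.homFunctor B).Additive := (W7Hull.homShAdj B).right_adjoint_additive
  haveI : PreservesFiniteLimits (RefFun.homFunctor B) :=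
    haveI : PreservesLimitsOfSize.{0, 0} (RefFun.homFunctor B) := (W7Hull.homShAdj B).rightAdjoint_preservesLimits
    inferInstance
  haveI := Functor.preservesHomology_of_preservesEpis_and_kernels (RefFun.homFunctor B)
  haveI := Functor.preservesFiniteColimits_of_preservesHomology (RefFun.homFunctor B)
  have hSe : (ShortComplex.mk g₀ π (cokernel.condition g₀)).ShortExact := { exact := ShortComplex.exact_cokernel g₀ }
  have hS := hSe.map_of_exact (RefFun.homFunctor B)
  have h1 : Subsingleton (Coh.HH X (RefHull.homSh B (CohB1.tensorMod A L)) 1) := by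
    by_contra hn
    obtain ⟨hV, -⟩ := rank_deg_homSh k hdim hX hb hA' hB
    obtain ⟨Q, p, hQ, hp, hdQ⟩ := exists_hom_deg_le k hdim hX h0 hV hn
    obtain ⟨f, hf⟩ := exists_hom_tensor hBl p hp
    refine hf (hom_eq_zero_of_slope k hX hA' hB hQ (by rw [hg] at hdQ; push_cast at hdQ; omega)
      (ss_twist k hX hA hL hAss) hBss ?_ f)
    rw [deg_twist (k := k) hX.dim hA hL, hdL]
    have h5 : (1 : ℤ) ≤ (a : ℤ) * b := by exact_mod_cast Nat.mul_pos ha hb
    have h6 := mul_le_mul_of_nonneg_left h5 (Int.natCast_nonneg m)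
    have h7 := le_max_right 1 (Curv2.deg k X B b * (a : ℤ) - Curv2.deg k X A a * (b : ℤ))
    linarith
  obtain ⟨τ, hτ⟩ : ∃ τ : Γ(RefHull.homSh B T, ⊤),
      ∀ σ : Γ(RefHull.homSh B (CohB1.tensorMod A L), ⊤), (RefFun.homMap B π).app ⊤ σ ≠ τ := by
    by_contra! hsurj
    have hs' : Function.Surjective (((RefFun.homFunctor B).map π).app ⊤) := hsurj
    rw [← surjective_hh0_iff (k := k)] at hs'
    have hinj : Function.Injective (hhMap k ((RefFun.homFunctor B).map g₀) 1) := by
      rw [← LinearMap.ker_eq_bot]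
      have h := range_δ_eq_ker_f (k := k) hS 0
      change LinearMap.range _ = LinearMap.ker (hhMap k ((RefFun.homFunctor B).map g₀) 1) at h
      rw [← h, LinearMap.range_eq_bot]
      refine LinearMap.ext fun x => ?_
      obtain ⟨y, rfl⟩ := hs' x
      exact LinearMap.mem_ker.1 ((range_g_eq_ker_δ (k := k) hS 0).le ⟨y, rfl⟩)
    have h1' : Subsingleton (Coh.HH X (RefHull.homSh B A) 1) := @Function.Injective.subsingleton _ _ _ hinj h1
    rw [euler_eq hX.dim, show CurveRR.h k (RefHull.homSh B A) 1 = 0 from h_eq_zero h1'] at hχ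
    omega
  let φ : B ⟶ T := (SecTwist.unitorR B).inv ≫ W7Hull.uncur (homOf τ)
  have hnot : ∀ ψ : B ⟶ CohB1.tensorMod A L, ψ ≫ π ≠ φ := fun ψ hψ => by
    refine hτ (TMul.val (W7Hull.cur ((SecTwist.unitorR B).hom ≫ ψ)) ⊤) ?_
    let c : Coh.structureModule X ⟶ (RefFun.homFunctor B).obj (CohB1.tensorMod A L) :=
      W7Hull.cur ((SecTwist.unitorR B).hom ≫ ψ)
    have hc : W7Hull.uncur c = (SecTwist.unitorR B).hom ≫ ψ := W7Hull.curEquiv.symm_apply_apply _
    have h := (W7Hull.homShAdj B).homEquiv_naturality_right_symm c π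
    rw [W7Hull.homShAdj, Adjunction.mkOfHomEquiv_homEquiv] at h
    change W7Hull.uncur (c ≫ RefFun.homMap B π) = W7Hull.uncur c ≫ π at h
    rw [hc, Category.assoc, hψ] at h
    have h' : c ≫ RefFun.homMap B π = homOf τ := by
      refine W7Hull.curEquiv.symm.injective (h.trans ?_)
      exact (Iso.hom_inv_id_assoc (SecTwist.unitorR B) (W7Hull.uncur (homOf τ)))
    have h'' := congrArg (fun f => TMul.val f ⊤) h'
    simp only [TMul.val_comp] at h''
    exact h''.trans ((val_homOf τ ⊤).trans (res_self _ _ _))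
  let i : A ⟶ pullback π φ := pullback.lift g₀ 0 (by rw [cokernel.condition, zero_comp])
  have w : i ≫ pullback.snd π φ = 0 := pullback.lift_snd _ _ _
  haveI : Mono i := mono_of_mono_fac (pullback.lift_fst _ _ _ : i ≫ pullback.fst π φ = g₀)
  have hF : (ShortComplex.mk i (pullback.snd π φ) w).ShortExact :=
    { exact := by
        refine ShortComplex.exact_of_f_is_kernel _ (KernelFork.IsLimit.ofι' _ _ fun {W} g hg => ?_)
        have hz : (g ≫ pullback.fst π φ) ≫ cokernel.π g₀ = 0 := by
          rw [Category.assoc, show cokernel.π g₀ = π from rfl, pullback.condition, ← Category.assoc,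
            show g ≫ pullback.snd π φ = 0 from hg, zero_comp]
        refine ⟨Abelian.monoLift g₀ _ hz, pullback.hom_ext ?_ ?_⟩
        · rw [Category.assoc]
          show _ ≫ i ≫ pullback.fst π φ = _
          rw [pullback.lift_fst, Abelian.monoLift_comp]
        · rw [Category.assoc]
          show _ ≫ i ≫ pullback.snd π φ = _
          rw [w, comp_zero]
          exact hg.symm }
  refine ⟨_, i, _, w, hF, fun hsp => ?_, ?_⟩
  · refine hnot (section_ (pullback.snd π φ) ≫ pullback.fst π φ) ?_
    rw [Category.assoc, pullback.condition, IsSplitEpi.id_assoc]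
  have h2 := VBTwo.isFinLocFree_middle hF (isFinLocFree_of_rank hA) hBl
  have hc : Coh.IsCoh (pullback π φ) := ⟨LocFree.isQCoh_of_isFinLocFree h2, LocFree.isFT_of_isFinLocFree h2⟩
  have hr := rank_of_isFinLocFree hc.1 h2
  have hgr := grk_add hF hc
  change grk (pullback π φ) = grk A + grk B at hgr
  rw [grk_of_rank hA, grk_of_rank hB] at hgr
  rwa [hgr] at hr

end Groth.Agent.HNSplit
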