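import Groth.Agent.HNSplit.Ext
import Groth.Agent.W7Slope.H0Bound
import Groth.Agent.Higgs.Destab

/-!
# Sections of twisted submodules and slope semistability
-/

set_option autoImplicit false
set_option linter.style.haveILetI false
set_option linter.unusedSectionVars false
set_option backward.isDefEq.respectTransparency false
set_option backward.isDefEq.respectTransparency.types false

universe u

open CategoryTheory CategoryTheory.Limits AlgebraicGeometry TopologicalSpace Opposite
open Groth.Agent.CurveRR Groth.Agent.CohFinite Groth.Agent.W7Slope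

noncomputable section

namespace Groth.Agent.HNSplit

variable {k : Type u} [Field k] {X : Scheme.{u}} [X.Over (Spec (CommRingCat.of k))]
  [IsProper (X ↘ Spec (CommRingCat.of k))] [IsIntegral X]

variable (k) in
/-- An invertible module of degree at most `2g - 2` has at most `2g` sections. -/
theorem h0_le_two_g (hX : RegCurve X) (h0 : CurveRR.h k (Coh.structureModule X) 0 = 1) {L : X.Modules}
    (hL : PicF.IsInvertible L) (hd : Curv2.deg k X L 1 ≤ 2 * (Curv2.genus k X : ℤ) - 2) :
    CurveRR.h k L 0 ≤ 2 * Curv2.genus k X := by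
  haveI := isNoetherian_of_proper k X
  rcases subsingleton_or_nontrivial (Coh.HH X L 1) with h | h
  · have he := hd
    rw [Curv2.deg, euler_structure hX.dim h0, euler_eq hX.dim, show CurveRR.h k L 1 = 0 from h_eq_zero h] at he
    push_cast at he
    omega
  · have := h0_le_genus (k := k) hX.dim (isCoh_of_inv hL) hL (𝟙 L) h
    omega

variable (k) in
/-- Sections of a submodule of a semistable bundle of large Euler characteristic. -/
theorem h0_sub_le (hdim : topologicalKrullDim X = 1) (hX : RegCurve X)
    (h0 : CurveRR.h k (Coh.structureModule X) 0 = 1) {E : X.Modules} {r : ℕ}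
    (hE : FlatMod.IsFinLocFreeOfRank r E) (hss : ModFun.IsSlopeSemistable k X E r)
    (hbig : 2 * (Curv2.genus k X : ℤ) * r ≤ Curv2.euler k X E) :
    ∀ (n : ℕ) (W : X.Modules) (i : W ⟶ E), Mono i → FlatMod.IsFinLocFreeOfRank n W →
      (CurveRR.h k W 0 : ℤ) * r ≤ Curv2.euler k X E * (n : ℤ) := by
  haveI := isNoetherian_of_proper k X
  intro n
  induction n using Nat.strong_induction_on with
  | _ n ih =>
    intro W i hi hW
    have hsl := sub_le k hss i hW
    by_cases h1 : Subsingleton (Coh.HH X W 1)
    · rw [Curv2.deg, Curv2.deg, euler_eq hX.dim W, show CurveRR.h k W 1 = 0 from h_eq_zero h1] at hsl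
      push_cast at hsl
      linarith
    obtain ⟨Q, p, hQ, hp, hdQ⟩ := exists_hom_deg_le k hdim hX h0 hW h1
    obtain ⟨I, f, q, hf, hq, hfac, hI, hK, hrk, hI1, -, hpos⟩ := exists_image k hX hW (isFinLocFreeOfRank_one hQ) p
    have := hpos hp
    have hI' : FlatMod.IsFinLocFreeOfRank 1 I := (show grk I = 1 by omega) ▸ hI
    have hdI : Curv2.deg k X I 1 ≤ Curv2.deg k X Q 1 :=
      (deg_le_of_mono k hX hI' (isFinLocFreeOfRank_one hQ) q).1
    obtain ⟨w, hS⟩ := Higgs.shortExact_image p f q hfac
    have hadd := h0_le_add (k := k) hS (isCoh_of_rank hK) (isCoh_of_rank hW) (isCoh_of_rank hI)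
    change CurveRR.h k W 0 ≤ CurveRR.h k (kernel p) 0 + CurveRR.h k I 0 at hadd
    have h2 := h0_le_two_g k hX h0 (ZeroSch.isInvertible_of_rankOne hI') (hdI.trans hdQ)
    have hIH := ih (grk (kernel p)) (by omega) (kernel p) (kernel.ι p ≫ i) (mono_comp _ _) hK
    have h5 : (CurveRR.h k W 0 : ℤ) ≤ CurveRR.h k (kernel p) 0 + 2 * (Curv2.genus k X : ℤ) := by omega
    have h6 := mul_le_mul_of_nonneg_right h5 (Int.natCast_nonneg r)
    rw [show (n : ℤ) = (grk (kernel p) : ℤ) + 1 by omega]
    linarith

end Groth.Agent.HNSplit
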