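import Groth.Agent.W7Slope.H1Quot

/-!
# Invertible quotients with nonzero `H^1`, over any field

The argument of `W7Slope.H1Quot`, needing invertible modules of unboundedly negative degree only.
-/

set_option autoImplicit false
set_option linter.style.haveILetI false
set_option linter.unusedSectionVars false
set_option backward.isDefEq.respectTransparency false

universe u

open CategoryTheory CategoryTheory.Limits AlgebraicGeometry TopologicalSpace Opposite
open Groth.Agent.CurveRR Groth.Agent.CohFinite Groth.Agent.W7Slope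
open TMul (homOf val_homOf)
open Groth.Agent.QC (res res_self)

noncomputable section

namespace Groth.Agent.HNSplit

variable {k : Type u} [Field k] {X : Scheme.{u}} [X.Over (Spec (CommRingCat.of k))]
  [IsProper (X ↘ Spec (CommRingCat.of k))] [IsIntegral X]

variable (k) in
/-- Invertible modules of arbitrarily negative degree. -/
theorem exists_deg_neg_large (hdim : topologicalKrullDim X = 1) (hX : RegCurve X) (b : ℤ) :
    ∃ L : X.Modules, PicF.IsInvertible L ∧ ∃ n : ℕ, 1 ≤ n ∧ b < n ∧ Curv2.deg k X L 1 = -(n : ℤ) := by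
  haveI := isNoetherian_of_proper k X
  haveI : JacobsonSpace X := LocallyOfFiniteType.jacobsonSpace (X ↘ Spec (CommRingCat.of k))
  obtain ⟨P, -, hP⟩ := nonempty_inter_closedPoints (Z := (Set.univ : Set X))
    ⟨genericPoint X, trivial⟩ isClosed_univ.isLocallyClosed
  set Z := Scheme.IdealSheafData.vanishingIdeal (⟨{P}, hP⟩ : Closeds X)
  have hI := isInvertible_pointIdeal hX.dim hP (genericPoint_ne_of_closed (k := k) hdim hP) (hX.reg P)
  have hd : Curv2.deg k X (ClSub.idealMod Z) 1 < 0 := by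
    have h := euler_ideal_tensor (k := k) (TMul.isInvertible_structureModule (X := X)) Z (point_dim hP)
    rw [euler_eq_of_iso (TMul.commIso _ _), euler_eq_of_iso (TMul.leftUnitIso _)] at h
    haveI := finite_proper k X _ (isCoh_idealMod Z).2 0
    letI := secMod k (ClSub.quotMod Z) ⊤
    haveI : Module.Finite k Γ(ClSub.quotMod Z, ⊤) := Module.Finite.equiv (secH0 (k := k) _).symm
    haveI : Nontrivial Γ(ClSub.quotMod Z, ⊤) := by
      obtain ⟨y, -⟩ : P ∈ Set.range Z.subschemeι := by
        rw [Z.range_subschemeι]; simp [Z]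
      haveI : Nonempty Z.subscheme := ⟨y⟩
      haveI : Nonempty (Z.subschemeι ⁻¹ᵁ ⊤) := ⟨⟨y, trivial⟩⟩
      exact (inferInstance : Nontrivial Γ(Z.subscheme, Z.subschemeι ⁻¹ᵁ ⊤))
    have hpos : 0 < CurveRR.h k (ClSub.quotMod Z) 0 := by
      rw [← finrank_sec]
      exact Module.finrank_pos
    rw [Curv2.deg, h]
    push_cast
    omega
  obtain ⟨N, hN⟩ : ∃ N : ℕ, b < N := ⟨b.toNat + 1, by omega⟩
  suffices H : ∀ m : ℕ, ∃ L : X.Modules, PicF.IsInvertible L ∧
      Curv2.deg k X L 1 = (m : ℤ) * Curv2.deg k X (ClSub.idealMod Z) 1 by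
    obtain ⟨L, hL, hdL⟩ := H (N + 1)
    refine ⟨L, hL, (-Curv2.deg k X L 1).toNat, ?_⟩
    have : Curv2.deg k X L 1 ≤ -((N : ℤ) + 1) := by
      rw [hdL]; push_cast
      nlinarith
    omega
  intro m
  induction m with
  | zero => exact ⟨Coh.structureModule X, TMul.isInvertible_structureModule, by rw [deg_structure]; simp⟩
  | succ m ih =>
    obtain ⟨L, hL, hdL⟩ := ih
    refine ⟨_, TMul.isInvertible_tensorMod hL hI, ?_⟩
    rw [deg_twist hX.dim (isFinLocFreeOfRank_one hL) hI, hdL]
    push_cast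
    ring

variable (k) in
/-- If `rk Q ≥ 2` then any functional on `H^1(Q)` kills the image of a nonzero line map. -/
theorem exists_killed_hom (hdim : topologicalKrullDim X = 1) (hX : RegCurve X) {Q : X.Modules}
    {q : ℕ} (hq : 2 ≤ q) (hQ : FlatMod.IsFinLocFreeOfRank q Q) (μ : Module.Dual k (Coh.HH X Q 1)) :
    ∃ (N : X.Modules) (φ : N ⟶ Q), FlatMod.IsFinLocFreeOfRank 1 N ∧ φ ≠ 0 ∧ ∀ x, μ (hhMap k φ 1 x) = 0 := by
  haveI := isNoetherian_of_proper k X
  obtain ⟨L, hL, n, hn1, hn, hdL⟩ := exists_deg_neg_large k hdim hX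
    (-(Curv2.euler k X (Coh.structureModule X)) * ((q : ℤ) + 1) - Curv2.deg k X Q q)
  obtain ⟨L', hL', ⟨e⟩⟩ := W7Hull.exists_tensor_inverse hL
  have hdL' : Curv2.deg k X L' 1 = n := by
    have h := deg_twist (k := k) hX.dim (isFinLocFreeOfRank_one hL) hL'
    rw [deg_iso (k := k) e, deg_structure, hdL] at h
    push_cast at h
    omega
  let e' : CohB1.tensorMod L' L ≅ Coh.structureModule X := TMul.commIso L' L ≪≫ e
  set M := CohB1.tensorMod Q L' with hM
  have hMr := rank_tensor_inv hQ hL'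
  have hMc := isCoh_of_rank hMr
  set N := CohB1.tensorMod (Coh.structureModule X) L with hN
  have hNi : PicF.IsInvertible N := TMul.isInvertible_tensorMod TMul.isInvertible_structureModule hL
  haveI := finite_proper k X M hMc 0
  haveI := finite_proper k X N (isCoh_of_inv hNi) 1
  letI := secMod k M ⊤
  haveI : Module.Finite k Γ(M, ⊤) := Module.Finite.equiv (secH0 (k := k) M).symm
  let θ : Γ(M, ⊤) →ₗ[k] Module.Dual k (Coh.HH X N 1) :=
    { toFun := fun t => μ.comp (hhMap k (tmap (homOf t) L ≫ (untw e' Q).hom) 1)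
      map_add' := fun s t => LinearMap.ext fun x => by
        show μ (hhMap k (tmap (homOf (s + t)) L ≫ (untw e' Q).hom) 1 x) =
          μ (hhMap k (tmap (homOf s) L ≫ (untw e' Q).hom) 1 x) + μ (hhMap k (tmap (homOf t) L ≫ (untw e' Q).hom) 1 x)
        rw [← map_add μ, ← hhMap_add, ← Preadditive.add_comp, ← tmap_add]
        have : homOf (s + t) = homOf s + homOf t := TMul.hom_ext_val (by
          show TMul.val (homOf (s + t)) ⊤ = TMul.val (homOf s) ⊤ + TMul.val (homOf t) ⊤
          rw [val_homOf, val_homOf, val_homOf, map_add])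
        rw [this]
      map_smul' := fun a t => LinearMap.ext fun x => by
        show μ (hhMap k (tmap (homOf (cst k X ⊤ a • t)) L ≫ (untw e' Q).hom) 1 x) =
          a • μ (hhMap k (tmap (homOf t) L ≫ (untw e' Q).hom) 1 x)
        rw [homOf_cst_smul, tmap_comp, tmap_scal, ← map_smul μ, hhMap_comp, hhMap_comp, hhMap_comp, hhMap_scal,
          map_smul] }
  obtain ⟨t, ht, ht0⟩ : ∃ t, θ t = 0 ∧ t ≠ 0 := by
    by_contra! hno
    have h1 := LinearMap.finrank_le_finrank_of_injective ((injective_iff_map_eq_zero θ).2 hno)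
    rw [Subspace.dual_finrank_eq, finrank_sec] at h1
    change h k M 0 ≤ h k N 1 at h1
    have h2 : h k N 0 = 0 := by
      by_contra h0
      obtain ⟨s, hs⟩ := exists_section (k := k) (L := N) h0
      have := Easy.deg_nonneg (k := k) hX.dim hNi s hs
      rw [deg_iso (k := k) (TMul.leftUnitIso L), hdL] at this
      omega
    have h3 : Curv2.euler k X N = (n : ℤ) * (-1) + Curv2.euler k X (Coh.structureModule X) := by
      rw [euler_eq_of_iso (TMul.leftUnitIso L)]
      rw [Curv2.deg] at hdL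
      push_cast at hdL
      linarith
    have h4 := euler_eq (k := k) hX.dim N
    have h5 := euler_eq (k := k) hX.dim M
    have h6 := deg_twist (k := k) hX.dim hQ hL'
    rw [hdL', ← hM, Curv2.deg] at h6
    rw [h2] at h4
    push_cast at h4
    have h7 : (h k M 0 : ℤ) ≤ h k N 1 := by exact_mod_cast h1
    have h8 : (2 : ℤ) * n ≤ (q : ℤ) * n := mul_le_mul_of_nonneg_right (by exact_mod_cast hq) (Int.natCast_nonneg _)
    nlinarith
  refine ⟨N, tmap (homOf t) L ≫ (untw e' Q).hom, isFinLocFreeOfRank_one hNi, fun h0 => ht0 ?_,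
    fun x => LinearMap.congr_fun ht x⟩
  have h1 : tmap (homOf t) L = 0 := (cancel_mono (untw e' Q).hom).1 (h0.trans zero_comp.symm)
  have h2 := untw_natural e (homOf t)
  rw [h1, tmap_zero, zero_comp] at h2
  have h3 : homOf t = 0 := (cancel_epi (untw e (Coh.structureModule X)).hom).1 (h2.symm.trans comp_zero.symm)
  have h4 := val_homOf (L := M) t ⊤
  rw [res_self, h3] at h4
  exact h4.symm.trans rfl

variable (k) in
/-- A bundle with nonzero `H^1` has an invertible quotient with nonzero `H^1`. -/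
theorem exists_invertible_quotient (hdim : topologicalKrullDim X = 1) (hX : RegCurve X)
    {E : X.Modules} {r : ℕ} (hE : FlatMod.IsFinLocFreeOfRank r E) (h1 : ¬ Subsingleton (Coh.HH X E 1)) :
    ∃ (Q K : X.Modules) (p : E ⟶ Q) (i : K ⟶ E) (n : ℕ), Epi p ∧ Mono i ∧ i ≫ p = 0 ∧ PicF.IsInvertible Q ∧
      FlatMod.IsFinLocFreeOfRank n K ∧ r = n + 1 ∧ ¬ Subsingleton (Coh.HH X Q 1) ∧
      Curv2.deg k X E r = Curv2.deg k X K n + Curv2.deg k X Q 1 := by
  classical
  haveI := isNoetherian_of_proper k X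
  have hEc := isCoh_of_rank hE
  rw [not_subsingleton_iff_nontrivial] at h1
  obtain ⟨x₀, hx₀⟩ := exists_ne (0 : Coh.HH X E 1)
  haveI : Module.Free k (Coh.HH X E 1) := Module.Free.of_divisionRing k _
  obtain ⟨lam, hlam⟩ : ∃ lam : Module.Dual k (Coh.HH X E 1), lam x₀ ≠ 0 := by
    by_contra! hh
    exact hx₀ ((Module.forall_dual_apply_eq_zero_iff k x₀).1 hh)
  let Pr : ℕ → Prop := fun n => ∃ (G : X.Modules) (j : G ⟶ E), Mono j ∧ Coh.IsCoh G ∧ grk G = n ∧
    ∀ x, lam (hhMap k j 1 x) = 0
  have hP0 : ∃ n ≤ r, Pr n := by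
    refine ⟨grk (kernel (𝟙 E)), ?_, _, kernel.ι (𝟙 E), inferInstance, isCoh_kernel k hEc hEc _, rfl, fun x => ?_⟩
    · exact (grk_le_of_mono k (kernel.ι (𝟙 E)) hEc).trans (grk_of_rank hE).le
    · rw [show kernel.ι (𝟙 E) = 0 from by simpa using kernel.condition (𝟙 E)]
      rw [hhMap_zero, map_zero]
  obtain ⟨n₀, hn₀r, hn₀⟩ := hP0
  obtain ⟨G, j, hj, hG, hgG, hGk⟩ : Pr (Nat.findGreatest Pr r) := Nat.findGreatest_spec hn₀r hn₀
  obtain ⟨G', Q, i, l, p, w, hS, hli, hl, hG', hQ, hr, -, -, hd⟩ := exists_saturation k hX hE hG j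
  haveI := hl
  have hSl : (ShortComplex.mk l (cokernel.π l) (cokernel.condition l)).ShortExact :=
    { exact := ShortComplex.exact_cokernel l }
  have hC := isCoh_cokernel k hG (isCoh_of_rank hG') l
  have hC0 : grk (cokernel l) = 0 := by
    have := grk_add hSl (isCoh_of_rank hG')
    change grk G' = grk G + grk (cokernel l) at this
    rw [grk_of_rank hG'] at this
    omega
  have hsub : Subsingleton ((cokernel l).presheaf.stalk (genericPoint X)) := by
    letI : Field (X.presheaf.stalk (genericPoint X)) := inferInstanceAs (Field X.functionField)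
    haveI := RegDual.finite_stalk hC (genericPoint X)
    exact Module.finrank_zero_iff.1 hC0
  have hcl := Groth.Agent.QC.isClosed_support hC.2
  have hsurj := h1_surjective (k := k) hX.dim l hcl
    (dim_le_zero_of_closed hX.dim hcl (notMem_support_of_subsingleton hsub)) le_rfl
  have hGk' : ∀ x, lam (hhMap k i 1 x) = 0 := fun x => by
    obtain ⟨y, rfl⟩ := hsurj x
    rw [← hhMap_comp, hli]
    exact hGk y
  have hp1 := surjective_h1 (k := k) hX.dim hS
  haveI : Module.Free k (Coh.HH X Q 1) := Module.Free.of_divisionRing k _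
  haveI : Module.Projective k (Coh.HH X Q 1) := Module.Projective.of_free
  obtain ⟨g, hg⟩ := LinearMap.exists_rightInverse_of_surjective (hhMap k p 1) (LinearMap.range_eq_top.2 hp1)
  let μ : Module.Dual k (Coh.HH X Q 1) := lam.comp g
  have hμ : ∀ x, μ (hhMap k p 1 x) = lam x := fun x => by
    have h0 : hhMap k p 1 (g (hhMap k p 1 x) - x) = 0 := by
      rw [map_sub, show hhMap k p 1 (g (hhMap k p 1 x)) = hhMap k p 1 x from LinearMap.congr_fun hg _, sub_self]
    obtain ⟨y, hy⟩ := (range_f_eq_ker_g hS 1).ge (LinearMap.mem_ker.2 h0)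
    have h2 := hGk' y
    rw [hy, map_sub, sub_eq_zero] at h2
    exact h2
  have hQne : ¬ Subsingleton (Coh.HH X Q 1) := fun hss => hlam (by
    rw [← hμ x₀, Subsingleton.elim (hhMap k p 1 x₀) 0, map_zero])
  have hq1 : grk Q ≠ 0 := fun h0 => hQne (by
    have hz : IsZero Q := isZero_of_rank_zero (h0 ▸ hQ)
    refine ⟨fun a b => ?_⟩
    have h3 : ∀ c : Coh.HH X Q 1, c = 0 := fun c => by
      rw [← hhMap_id k Q 1 c, show (𝟙 Q : Q ⟶ Q) = 0 from hz.eq_of_src _ _]
      exact hhMap_zero 1 c
    rw [h3 a, h3 b])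
  haveI := hS.mono_f
  haveI := hS.epi_g
  by_cases hq : grk Q = 1
  · rw [hq] at hQ
    refine ⟨Q, G', p, i, grk G, inferInstance, inferInstance, w, ZeroSch.isInvertible_of_rankOne hQ, hG', by omega,
      hQne, ?_⟩
    rw [hd, deg_eq hG', deg_eq hQ]
  · exfalso
    obtain ⟨N, φ, hN, hφ, hφk⟩ := exists_killed_hom k hdim hX (by omega : 2 ≤ grk Q) hQ μ
    obtain ⟨I, f, iI, hf, hiI, hfac, hI, -, -, -, -, hpos⟩ := exists_image k hX hN hQ φ
    have hfs := surjective_h1 (k := k) hX.dim (shortExact_ker f)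
    have hIk : ∀ y, μ (hhMap k iI 1 y) = 0 := fun y => by
      obtain ⟨z, rfl⟩ := hfs y
      change μ (hhMap k iI 1 (hhMap k f 1 z)) = 0
      rw [← hhMap_comp, hfac]
      exact hφk z
    have hC' := isCoh_cokernel k (isCoh_of_rank hI) (isCoh_of_rank hQ) iI
    let σ := p ≫ cokernel.π iI
    haveI : Epi σ := epi_comp _ _
    have hPc := isCoh_kernel k hEc hC' σ
    let f' : kernel σ ⟶ I := Abelian.monoLift iI (kernel.ι σ ≫ p) (by rw [Category.assoc]; exact kernel.condition σ)
    have hPk : ∀ x, lam (hhMap k (kernel.ι σ) 1 x) = 0 := fun x => by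
      rw [← hμ, ← hhMap_comp, ← Abelian.monoLift_comp iI (kernel.ι σ ≫ p) (by rw [Category.assoc]; exact kernel.condition σ),
        hhMap_comp]
      exact hIk _
    have hSI : (ShortComplex.mk iI (cokernel.π iI) (cokernel.condition iI)).ShortExact :=
      { exact := ShortComplex.exact_cokernel iI }
    have g1 := grk_add (shortExact_ker σ) hEc
    have g2 := grk_add hSI (isCoh_of_rank hQ)
    change grk E = grk (kernel σ) + grk (cokernel iI) at g1
    change grk Q = grk I + grk (cokernel iI) at g2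
    rw [grk_of_rank hE] at g1
    have hIpos := hpos hφ
    have hgt : Nat.findGreatest Pr r < grk (kernel σ) := by omega
    have hle := Nat.le_findGreatest (P := Pr) (n := r) (m := grk (kernel σ)) (by omega)
      ⟨kernel σ, kernel.ι σ, inferInstance, hPc, rfl, hPk⟩
    omega

variable (k) in
/-- `H^1(E) ≠ 0` gives a nonzero map to an invertible module of degree at most `2g - 2`. -/
theorem exists_hom_deg_le (hdim : topologicalKrullDim X = 1) (hX : RegCurve X)
    (h0 : h k (Coh.structureModule X) 0 = 1)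
    {E : X.Modules} {r : ℕ} (hE : FlatMod.IsFinLocFreeOfRank r E) (h1 : ¬ Subsingleton (Coh.HH X E 1)) :
    ∃ (Q : X.Modules) (p : E ⟶ Q), PicF.IsInvertible Q ∧ p ≠ 0 ∧
      Curv2.deg k X Q 1 ≤ 2 * (Curv2.genus k X : ℤ) - 2 := by
  obtain ⟨Q, K, p, i, n, hp, -, -, hQ, -, -, hQ1, -⟩ := exists_invertible_quotient k hdim hX hE h1
  refine ⟨Q, p, hQ, fun h => pos_rank_not_isZero k one_pos (isFinLocFreeOfRank_one hQ) ?_, ?_⟩
  · subst h
    exact IsZero.of_epi_zero E Q
  by_contra hlt
  exact hQ1 (subsingleton_h1 (k := k) hX.dim h0 hQ (by omega))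

end Groth.Agent.HNSplit
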