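import Groth.Agent.HNSplit.Ext
import Groth.Agent.W7Slope.Max

/-!
# Stable and semistable bundles of every rank and degree in genus one
-/

set_option autoImplicit false
set_option linter.style.haveILetI false
set_option linter.unusedSectionVars false
set_option backward.isDefEq.respectTransparency false
set_option backward.isDefEq.respectTransparency.types false

universe u

open CategoryTheory CategoryTheory.Limits AlgebraicGeometry TopologicalSpace Opposite
open Groth.Agent.CurveRR Groth.Agent.W7Slope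

noncomputable section

namespace Groth.Agent.HNSplit

/-- Stability, tested on all submodules which are not everything. -/
def Stb (k : Type u) [Field k] (X : Scheme.{u}) [X.Over (Spec (CommRingCat.of k))] (F : X.Modules) (r : ℕ)
    (d : ℤ) : Prop :=
  FlatMod.IsFinLocFreeOfRank r F ∧ Curv2.deg k X F r = d ∧
    ∀ (G : X.Modules) (n : ℕ) (i : G ⟶ F), Mono i → 0 < n → FlatMod.IsFinLocFreeOfRank n G → ¬ IsIso i →
      Curv2.deg k X G n * (r : ℤ) < d * (n : ℤ)

variable {k : Type u} [Field k] {X : Scheme.{u}} [X.Over (Spec (CommRingCat.of k))]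
  [IsProper (X ↘ Spec (CommRingCat.of k))] [IsIntegral X]

theorem Stb.ss {F : X.Modules} {r : ℕ} {d : ℤ} (h : Stb k X F r d) : ModFun.IsSlopeSemistable k X F r := by
  haveI := isNoetherian_of_proper k X
  intro G n i hi hn hG
  by_cases hiso : IsIso i
  · have hnr : n = r := by rw [← grk_of_rank hG, ← grk_of_rank h.1, grk_iso (asIso i)]
    subst hnr
    rw [deg_iso (k := k) (asIso i)]
  · rw [h.2.1]
    exact (h.2.2 G n i hi hn hG hiso).le

variable (k) in
/-- A nonsplit extension of Farey neighbours is stable. -/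
theorem stb_of_ext (hX : RegCurve X) {A F B : X.Modules} {a b : ℕ} {dA dB : ℤ} (ha : 0 < a) (hb : 0 < b)
    (hA : Stb k X A a dA) (hB : Stb k X B b dB) (hdet : dB * (a : ℤ) - dA * (b : ℤ) = 1)
    (i : A ⟶ F) (p : F ⟶ B) (w : i ≫ p = 0) (hS : (ShortComplex.mk i p w).ShortExact) (hns : ¬ IsSplitEpi p)
    (hF : FlatMod.IsFinLocFreeOfRank (a + b) F) : Stb k X F (a + b) (dA + dB) := by
  haveI := isNoetherian_of_proper k X
  haveI := hS.mono_f
  haveI := hS.epi_g
  obtain ⟨hAr, hAd, hAs⟩ := hA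
  obtain ⟨hBr, hBd, hBs⟩ := hB
  have hd := cdeg_add (k := k) hS (isCoh_of_rank hAr) (isCoh_of_rank hF) (isCoh_of_rank hBr)
  change cdeg k F = cdeg k A + cdeg k B at hd
  rw [← deg_eq hF, ← deg_eq hAr, ← deg_eq hBr, hAd, hBd] at hd
  refine ⟨hF, hd, fun G n j hj hn hG hniso => ?_⟩
  have hle := grk_le_of_mono k j (isCoh_of_rank hF)
  rw [grk_of_rank hG, grk_of_rank hF] at hle
  rcases eq_or_lt_of_le hle with rfl | hlt
  · obtain ⟨h1, h2⟩ := deg_le_of_mono k hX hG hF j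
    rw [hd] at h1 h2
    exact mul_lt_mul_of_pos_right (lt_of_le_of_ne h1 fun h => hniso (h2 h)) (by exact_mod_cast hn)
  obtain ⟨I, f, q, hf, hq, hfac, hI, hK, hrk, htb, hdG, -⟩ := exists_image k hX hG hBr (j ≫ p)
  have hl : (kernel.ι (j ≫ p) ≫ j) ≫ p = 0 := by rw [Category.assoc]; exact kernel.condition _
  let l := hS.exact.lift (kernel.ι (j ≫ p) ≫ j) hl
  haveI : Mono l := mono_of_mono_fac (hS.exact.lift_f (kernel.ι (j ≫ p) ≫ j) hl)
  have hKA : Curv2.deg k X (kernel (j ≫ p)) (grk (kernel (j ≫ p))) * (a : ℤ) ≤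
      dA * (grk (kernel (j ≫ p)) : ℤ) := by
    rw [← hAd]
    exact sub_le k (E := A) (r := a) (Stb.ss (k := k) ⟨hAr, hAd, hAs⟩) l hK
  have hIB : Curv2.deg k X I (grk I) * (b : ℤ) ≤ dB * (grk I : ℤ) := by
    rw [← hBd]
    exact sub_le k (E := B) (r := b) (Stb.ss (k := k) ⟨hBr, hBd, hBs⟩) q hI
  have hstrict : grk (kernel (j ≫ p)) = 0 → Curv2.deg k X I (grk I) * (b : ℤ) < dB * (grk I : ℤ) := fun hK0 => by
    refine hBs I _ q hq (by omega) hI fun hqi => hns ?_
    haveI : Mono (j ≫ p) := Preadditive.mono_of_isZero_kernel _ (isZero_of_rank_zero (hK0 ▸ hK))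
    haveI : Epi (j ≫ p) := by rw [← hfac]; exact epi_comp _ _
    haveI : IsIso (j ≫ p) := isIso_of_mono_of_epi _
    exact IsSplitEpi.mk' ⟨inv (j ≫ p) ≫ j, by rw [Category.assoc, IsIso.inv_hom_id]⟩
  rw [hdG]
  generalize Curv2.deg k X (kernel (j ≫ p)) (grk (kernel (j ≫ p))) = dK at hKA ⊢
  generalize Curv2.deg k X I (grk I) = dI at hIB hstrict ⊢
  generalize grk (kernel (j ≫ p)) = m at hKA hrk hstrict
  generalize grk I = t at hIB hrk hstrict
  subst hrk
  by_contra hge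
  push Not at hge
  push_cast at hge ⊢
  have ha' : (0 : ℤ) < a := by exact_mod_cast ha
  have hb' : (0 : ℤ) < b := by exact_mod_cast hb
  set uu := dB * ((m : ℤ) + t) - (dK + dI) * b with huu
  have hu : (m : ℤ) ≤ uu * a := by
    have h1 := mul_le_mul_of_nonneg_right hKA hb'.le
    have h2 := mul_le_mul_of_nonneg_right hIB ha'.le
    have e : (dB * a - dA * b) * (m : ℤ) = m := by rw [hdet, one_mul]
    rw [huu]
    linarith
  have hu1 : 1 ≤ uu := by
    by_contra h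
    push Not at h
    have h0 : uu * (a : ℤ) ≤ 0 := mul_nonpos_of_nonpos_of_nonneg (by omega) ha'.le
    have hm0 : m = 0 := by omega
    subst hm0
    have hs := hstrict rfl
    have hK0 : dK ≤ 0 := by
      by_contra h'
      have := mul_pos (not_le.1 h') ha'
      simp at hKA
      linarith
    have := mul_nonpos_of_nonpos_of_nonneg hK0 hb'.le
    rw [huu] at h
    simp only [Nat.cast_zero, zero_add] at h
    linarith
  set vv := (dK + dI) * (a : ℤ) - dA * ((m : ℤ) + t) with hvv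
  have hv : uu ≤ vv := by rw [huu, hvv]; linarith
  have key : uu * (a : ℤ) + vv * b = (m : ℤ) + t := by
    rw [huu, hvv]
    linear_combination ((m : ℤ) + t) * hdet
  have h3 := mul_le_mul_of_nonneg_right hv hb'.le
  have h4 := mul_le_mul_of_nonneg_right hu1 (show (0 : ℤ) ≤ (a : ℤ) + b by linarith)
  have hlt' : (m : ℤ) + t < (a : ℤ) + b := by exact_mod_cast hlt
  linarith

variable (k) in
/-- Stable bundles of every coprime rank and degree in genus one. -/
theorem exists_stb [IsAlgClosed k] (hdim : topologicalKrullDim X = 1) (hX : RegCurve X)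
    (hg : Curv2.genus k X = 1) : ∀ (r : ℕ), 0 < r → ∀ d : ℤ, IsCoprime d (r : ℤ) → ∃ F, Stb k X F r d := by
  haveI := isNoetherian_of_proper k X
  intro r
  induction r using Nat.strong_induction_on with
  | _ r ih =>
    intro hr d hcop
    rcases Nat.lt_or_ge r 2 with h1 | h2
    · obtain rfl : r = 1 := by omega
      obtain ⟨L, -, hL, -, hd, -, -⟩ := VBTwo.exists_deg (k := k) hdim hX d
      refine ⟨L, isFinLocFreeOfRank_one hL, hd, fun G n i hi hn hG hniso => ?_⟩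
      have hle := grk_le_of_mono k i (isCoh_of_inv hL)
      rw [grk_of_rank hG, grk_of_rank (isFinLocFreeOfRank_one hL)] at hle
      obtain rfl : n = 1 := by omega
      obtain ⟨ha, hb⟩ := deg_le_of_mono k hX hG (isFinLocFreeOfRank_one hL) i
      rw [hd] at ha hb
      push_cast
      rw [mul_one, mul_one]
      exact lt_of_le_of_ne ha fun h => hniso (hb h)
    obtain ⟨a, c, hac⟩ := hcop
    have hr0 : (r : ℤ) ≠ 0 := by omega
    set r₁ := a % (r : ℤ) with hr₁
    have h1 : a = r₁ + (r : ℤ) * (a / r) := (Int.emod_add_mul_ediv a r).symm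
    have hr₁0 : r₁ ≠ 0 := by
      intro h0
      rw [h0, zero_add] at h1
      rw [h1] at hac
      have hdvd : (r : ℤ) ∣ 1 := ⟨(a / r) * d + c, by linarith⟩
      have := Int.le_of_dvd one_pos hdvd
      omega
    have hr₁n := Int.emod_nonneg a hr0
    have hr₁lt := Int.emod_lt_of_pos a (show (0 : ℤ) < r by omega)
    rw [← hr₁] at hr₁n hr₁lt
    obtain ⟨n₁, hn₁⟩ : ∃ n₁ : ℕ, (n₁ : ℤ) = r₁ := ⟨r₁.toNat, by omega⟩
    obtain ⟨n₂, hn₂⟩ : ∃ n₂ : ℕ, n₁ + n₂ = r := ⟨r - n₁, by omega⟩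
    set d₁ := -((a / (r : ℤ)) * d + c) with hd₁
    have hdet : (d - d₁) * (n₁ : ℤ) - d₁ * (n₂ : ℤ) = 1 := by
      have e : (n₂ : ℤ) = r - r₁ := by omega
      rw [hn₁, e, hd₁]
      linear_combination hac - d * h1
    obtain ⟨A, hA⟩ := ih n₁ (by omega) (by omega) d₁ ⟨-(n₂ : ℤ), d - d₁, by linarith⟩
    obtain ⟨B, hB⟩ := ih n₂ (by omega) (by omega) (d - d₁) ⟨(n₁ : ℤ), -d₁, by linarith⟩
    have h0 := h0_structure k X
    obtain ⟨hV, hdV⟩ := rank_deg_homSh k hdim hX (by omega : 0 < n₂) hA.1 hB.1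
    have hχ : Curv2.euler k X (RefHull.homSh B A) < 0 := by
      rw [Curv2.deg, euler_structure hX.dim h0, hg] at hdV
      rw [hA.2.1, hB.2.1] at hdV
      push_cast at hdV
      linarith
    obtain ⟨F, i, p, w, hS, hns, hF⟩ := exists_nonsplit k hdim hX h0 hg (by omega) (by omega) hA.1 hB.1
      hA.ss hB.ss hχ
    have h := stb_of_ext k hX (by omega) (by omega) hA hB hdet i p w hS hns hF
    rw [hn₂, add_sub_cancel] at h
    exact ⟨F, h⟩

variable (k) in
/-- Extensions of semistable bundles of the same slope are semistable. -/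
theorem ss_of_ext (hX : RegCurve X) {T : ShortComplex X.Modules} (hT : T.ShortExact) {r₁ r₂ : ℕ} {d₁ d₂ : ℤ}
    (h₁ : FlatMod.IsFinLocFreeOfRank r₁ T.X₁) (h₂ : FlatMod.IsFinLocFreeOfRank (r₁ + r₂) T.X₂)
    (h₃ : FlatMod.IsFinLocFreeOfRank r₂ T.X₃) (hd₁ : Curv2.deg k X T.X₁ r₁ = d₁) (hd₂ : Curv2.deg k X T.X₃ r₂ = d₂)
    (hr₁ : 0 < r₁) (hr₂ : 0 < r₂) (hs : d₁ * (r₂ : ℤ) = d₂ * (r₁ : ℤ)) (hss₁ : ModFun.IsSlopeSemistable k X T.X₁ r₁)
    (hss₂ : ModFun.IsSlopeSemistable k X T.X₃ r₂) :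
    Curv2.deg k X T.X₂ (r₁ + r₂) = d₁ + d₂ ∧ ModFun.IsSlopeSemistable k X T.X₂ (r₁ + r₂) := by
  haveI := isNoetherian_of_proper k X
  haveI := hT.mono_f
  haveI := hT.epi_g
  have hd := Easy.deg_add (k := k) T hT h₁ h₂ h₃ rfl
  rw [hd₁, hd₂] at hd
  refine ⟨hd, fun G n i hi hn hG => ?_⟩
  obtain ⟨I, p, q, hp, hq, -, hI, hK, hrk, -, hdG, -⟩ := exists_image k hX hG h₃ (i ≫ T.g)
  have hlift : (kernel.ι (i ≫ T.g) ≫ i) ≫ T.g = 0 := by rw [Category.assoc]; exact kernel.condition _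
  let j := hT.exact.lift (kernel.ι (i ≫ T.g) ≫ i) hlift
  haveI : Mono j := mono_of_mono_fac (hT.exact.lift_f (kernel.ι (i ≫ T.g) ≫ i) hlift)
  have a := sub_le k (E := T.X₁) (r := r₁) hss₁ j hK
  have b := sub_le k (E := T.X₃) (r := r₂) hss₂ q hI
  rw [hd₁] at a
  rw [hd₂] at b
  rw [hdG, hd]
  have hrk' : (n : ℤ) = (grk (kernel (i ≫ T.g)) : ℤ) + (grk I : ℤ) := by exact_mod_cast hrk
  generalize grk (kernel (i ≫ T.g)) = m at a hrk' ⊢
  generalize grk I = t at b hrk' ⊢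
  have hr₁' : (0 : ℤ) < r₁ := by exact_mod_cast hr₁
  have hr₂' : (0 : ℤ) < r₂ := by exact_mod_cast hr₂
  refine le_of_mul_le_mul_right ?_ (mul_pos hr₁' hr₂')
  rw [hrk']
  push_cast
  have a' := mul_le_mul_of_nonneg_right a (mul_nonneg hr₂'.le (add_nonneg hr₁'.le hr₂'.le))
  have b' := mul_le_mul_of_nonneg_right b (mul_nonneg hr₁'.le (add_nonneg hr₁'.le hr₂'.le))
  linear_combination a' + b' + ((m : ℤ) * r₂ - (t : ℤ) * r₁) * hs

variable (k) in
/-- Semistable bundles of every rank and degree in genus one. -/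
theorem exists_ss [IsAlgClosed k] (hdim : topologicalKrullDim X = 1) (hX : RegCurve X)
    (hg : Curv2.genus k X = 1) (r : ℕ) (hr : 0 < r) (d : ℤ) :
    ∃ F : X.Modules, FlatMod.IsFinLocFreeOfRank r F ∧ Curv2.deg k X F r = d ∧
      ModFun.IsSlopeSemistable k X F r := by
  haveI := isNoetherian_of_proper k X
  obtain ⟨g, hg0, d₀, r₀, hcop, rfl, hr₀⟩ : ∃ g : ℕ, 0 < g ∧ ∃ (d₀ : ℤ) (r₀ : ℕ), IsCoprime d₀ (r₀ : ℤ) ∧
      d = d₀ * g ∧ r = r₀ * g := by
    refine ⟨Int.gcd d r, Int.gcd_pos_of_ne_zero_right d (by omega), d / Int.gcd d r, r / Int.gcd d r, ?_, ?_, ?_⟩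
    · rw [Int.natCast_div]
      exact Int.isCoprime_iff_gcd_eq_one.2 (Int.gcd_div_gcd_div_gcd (Int.gcd_pos_of_ne_zero_right d (by omega)))
    · exact (Int.ediv_mul_cancel (Int.gcd_dvd_left d r)).symm
    · exact (Nat.div_mul_cancel (Int.natCast_dvd_natCast.1 (Int.gcd_dvd_right d r))).symm
  subst hr₀
  have hr₀0 : 0 < r₀ := Nat.pos_of_mul_pos_right hr
  obtain ⟨F₀, hF₀⟩ := exists_stb k hdim hX hg r₀ hr₀0 d₀ hcop
  obtain ⟨m, rfl⟩ : ∃ m, g = m + 1 := ⟨g - 1, by omega⟩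
  clear hr hg0
  induction m with
  | zero =>
    refine ⟨F₀, by simpa using hF₀.1, by simpa using hF₀.2.1, by simpa using hF₀.ss⟩
  | succ m ih =>
    obtain ⟨F, hF, hdF, hssF⟩ := ih
    let T := ShortComplex.mk (biprod.inl : F₀ ⟶ F₀ ⊞ F) biprod.snd biprod.inl_snd
    have hT : T.ShortExact := (ShortComplex.Splitting.ofHasBinaryBiproduct F₀ F).shortExact
    have h2l := VBTwo.isFinLocFree_middle hT (isFinLocFree_of_rank hF₀.1) (isFinLocFree_of_rank hF)
    have hc : Coh.IsCoh (F₀ ⊞ F) := ⟨LocFree.isQCoh_of_isFinLocFree h2l, LocFree.isFT_of_isFinLocFree h2l⟩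
    have h2 := rank_of_isFinLocFree hc.1 h2l
    have hgr := grk_add hT hc
    change grk (F₀ ⊞ F) = grk F₀ + grk F at hgr
    rw [grk_of_rank hF₀.1, grk_of_rank hF] at hgr
    change FlatMod.IsFinLocFreeOfRank (grk (F₀ ⊞ F)) (F₀ ⊞ F) at h2
    rw [hgr] at h2
    obtain ⟨hd, hss⟩ := ss_of_ext k hX hT hF₀.1 h2 hF hF₀.2.1 hdF hr₀0 (by positivity)
      (by push_cast; ring) hF₀.ss hssF
    have e : r₀ * (m + 1 + 1) = r₀ + r₀ * (m + 1) := by ring
    rw [e]
    exact ⟨F₀ ⊞ F, h2, hd.trans (by push_cast; ring), hss⟩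

end Groth.Agent.HNSplit
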