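import Groth.Agent.HNSplit.Stable
import Groth.Agent.W7Slope.GlobGenBundle
import Groth.Agent.W7Slope.H0Bound
import Groth.Agent.GeomConn.Basic

/-!
# Sections of some degree zero twist of a bundle of degree zero in genus one
-/

set_option autoImplicit false
set_option linter.style.haveILetI false
set_option linter.unusedSectionVars false
set_option backward.isDefEq.respectTransparency false
set_option backward.isDefEq.respectTransparency.types false

universe u

open CategoryTheory CategoryTheory.Limits AlgebraicGeometry TopologicalSpace Opposite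
open Groth.Agent.CurveRR Groth.Agent.CohFinite Groth.Agent.W7Slope
open TMul (homOf val_homOf)
open Groth.Agent.QC (res res_self)

noncomputable section

namespace Groth.Agent.HNSplit

variable {k : Type u} [Field k] {X : Scheme.{u}} [X.Over (Spec (CommRingCat.of k))]
  [IsProper (X ↘ Spec (CommRingCat.of k))] [IsIntegral X]

variable (k) in
/-- Finitely many sections factor through a module of the corresponding rank and degree zero. -/
theorem exists_trivial_cover (hX : RegCurve X) (W : X.Modules) : ∀ (n : ℕ) (v : Fin n → (Coh.structureModule X ⟶ W)),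
    ∃ (M : X.Modules) (e : M ⟶ W), FlatMod.IsFinLocFreeOfRank n M ∧ Curv2.deg k X M n = 0 ∧
      ∀ i, ∃ q : Coh.structureModule X ⟶ M, q ≫ e = v i := by
  haveI := isNoetherian_of_proper k X
  intro n
  induction n with
  | zero =>
    intro v
    have hK := isCoh_kernel k (RefStalk.isCoh_structureModule (X := X)) RefStalk.isCoh_structureModule
      (𝟙 (Coh.structureModule X))
    have hg := grk_add (shortExact_ker (𝟙 (Coh.structureModule X))) RefStalk.isCoh_structureModule
    change grk (Coh.structureModule X) = grk (kernel (𝟙 (Coh.structureModule X))) + grk (Coh.structureModule X) at hg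
    have hr := isFinLocFree_sub k hX (kernel.ι (𝟙 (Coh.structureModule X))) hK
      (isFinLocFreeOfRank_one (TMul.isInvertible_structureModule (X := X)))
    rw [show grk (kernel (𝟙 (Coh.structureModule X))) = 0 by omega] at hr
    exact ⟨_, 0, hr, deg_rank_zero k hr, fun i => i.elim0⟩
  | succ n ih =>
    intro v
    obtain ⟨M, e, hM, hdM, hq⟩ := ih fun i => v i.succ
    let T := ShortComplex.mk (biprod.inl : Coh.structureModule X ⟶ Coh.structureModule X ⊞ M) biprod.snd biprod.inl_snd
    have hT : T.ShortExact := (ShortComplex.Splitting.ofHasBinaryBiproduct (Coh.structureModule X) M).shortExact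
    have h1 := isFinLocFreeOfRank_one (TMul.isInvertible_structureModule (X := X))
    have h2l := VBTwo.isFinLocFree_middle hT (isFinLocFree_of_rank h1) (isFinLocFree_of_rank hM)
    have hc : Coh.IsCoh (Coh.structureModule X ⊞ M) :=
      ⟨LocFree.isQCoh_of_isFinLocFree h2l, LocFree.isFT_of_isFinLocFree h2l⟩
    have h2 := rank_of_isFinLocFree hc.1 h2l
    have hgr := grk_add hT hc
    change grk (Coh.structureModule X ⊞ M) = grk (Coh.structureModule X) + grk M at hgr
    rw [grk_of_rank h1, grk_of_rank hM] at hgr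
    change FlatMod.IsFinLocFreeOfRank (grk (Coh.structureModule X ⊞ M)) (Coh.structureModule X ⊞ M) at h2
    rw [hgr, add_comm] at h2
    have hd := Easy.deg_add (k := k) T hT h1 h2 hM (Nat.add_comm n 1)
    rw [deg_structure, hdM] at hd
    refine ⟨_, biprod.desc (v 0) e, h2, hd.trans (add_zero _), fun i => ?_⟩
    induction i using Fin.cases with
    | zero => exact ⟨biprod.inl, biprod.inl_desc _ _⟩
    | succ j =>
      obtain ⟨q, hqj⟩ := hq j
      exact ⟨q ≫ biprod.inr, by rw [Category.assoc, biprod.inr_desc, hqj]⟩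

variable (k) in
/-- In genus one, a bundle of degree equal to its rank has a section vanishing at some closed point. -/
theorem exists_section_twist_point [IsAlgClosed k] (hdim : topologicalKrullDim X = 1) (hX : RegCurve X)
    (hg : Curv2.genus k X = 1) {W : X.Modules} {n : ℕ} (hn : 0 < n) (hW : FlatMod.IsFinLocFreeOfRank n W)
    (hd : Curv2.deg k X W n = n) :
    ∃ (P : X) (hP : IsClosed ({P} : Set X)),
      CurveRR.h k (CohB1.tensorMod (ClSub.idealMod (Scheme.IdealSheafData.vanishingIdeal ⟨{P}, hP⟩)) W) 0 ≠ 0 := by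
  haveI := isNoetherian_of_proper k X
  haveI : JacobsonSpace X := LocallyOfFiniteType.jacobsonSpace (X ↘ Spec (CommRingCat.of k))
  by_contra! hno
  have hOχ : Curv2.euler k X (Coh.structureModule X) = 0 := by
    rw [euler_structure hX.dim (h0_structure k X), hg]; simp
  have hWc := isCoh_of_rank hW
  have hχW : Curv2.euler k X W = n := by
    rw [Curv2.deg, hOχ] at hd
    simpa using hd
  have hall : ∀ (P : X) (hP : IsClosed ({P} : Set X)), Subsingleton (Coh.HH X
      (CohB1.tensorMod (ClSub.idealMod (Scheme.IdealSheafData.vanishingIdeal ⟨{P}, hP⟩)) W) 1) := by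
    intro P hP
    set I := Scheme.IdealSheafData.vanishingIdeal (⟨{P}, hP⟩ : Closeds X)
    have hI := isInvertible_pointIdeal hX.dim hP (genericPoint_ne_of_closed (k := k) hdim hP) (hX.reg P)
    have hdI : Curv2.deg k X (ClSub.idealMod I) 1 = -1 := by
      have h := euler_pointIdeal (k := k) hP (TMul.isInvertible_structureModule (X := X))
      rw [euler_eq_of_iso (TMul.commIso _ _), euler_eq_of_iso (TMul.leftUnitIso _)] at h
      rw [Curv2.deg, h]; push_cast; ring
    have h := deg_twist (k := k) hX.dim hW hI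
    rw [hd, hdI, Curv2.deg, hOχ, euler_eq_of_iso (TMul.commIso _ _), euler_eq hX.dim, hno P hP] at h
    push_cast at h
    haveI := finite_proper (A := k) X (CohB1.tensorMod (ClSub.idealMod I) W)
      (isCoh_of_iso (TMul.commIso _ _) (isCoh_of_rank (rank_tensor_inv hW hI))) 1
    exact Module.finrank_zero_iff.1 (show CurveRR.h k (CohB1.tensorMod (ClSub.idealMod I) W) 1 = 0 by exact_mod_cast (show (CurveRR.h k (CohB1.tensorMod (ClSub.idealMod I) W) 1 : ℤ) = 0 by linarith))
  obtain ⟨ι, p, hp⟩ := isGloballyGenerated_of_h1 k hdim hW hall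
  obtain ⟨P, -, hP⟩ := nonempty_inter_closedPoints (Z := (Set.univ : Set X))
    ⟨genericPoint X, trivial⟩ isClosed_univ.isLocallyClosed
  set I := Scheme.IdealSheafData.vanishingIdeal (⟨{P}, hP⟩ : Closeds X)
  have hT := shortExact_tmapR (hasFrames_of_rank hW) (ideal_shortExact I)
  obtain ⟨hIc, hQ⟩ := isCoh_idealMod I
  have hI := isInvertible_pointIdeal hX.dim hP (genericPoint_ne_of_closed (k := k) hdim hP) (hX.reg P)
  have hQt : CurveRR.h k (CohB1.tensorMod (ClSub.quotMod I) W) 0 = n := by
    have h := (h0_tensor (k := k) hQ hP (topologicalKrullDim_zero_of_discreteTopology _)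
      ((support_quotMod I).trans (by simp [I])) hW).1
    rw [h0_quotMod_point hP, mul_one] at h
    rw [← h]
    exact h_eq_of_iso (TMul.commIso _ _) (q := 0)
  have hh0 : CurveRR.h k W 0 ≤ n := by
    have h := h0_le_add (k := k) hT (isCoh_of_iso (TMul.commIso _ _) (isCoh_of_rank (rank_tensor_inv hW hI)))
      (isCoh_of_iso (TMul.leftUnitIso W).symm hWc) (isCoh_tensor' hQ hWc)
    change CurveRR.h k (CohB1.tensorMod (Coh.structureModule X) W) 0 ≤
      CurveRR.h k (CohB1.tensorMod (ClSub.idealMod I) W) 0 + CurveRR.h k (CohB1.tensorMod (ClSub.quotMod I) W) 0 at h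
    rw [hno P hP, hQt, h_eq_of_iso (TMul.leftUnitIso W) (q := 0)] at h
    omega
  haveI := finite_proper k X W hWc 0
  letI := secMod k W ⊤
  haveI : Module.Finite k Γ(W, ⊤) := Module.Finite.equiv (secH0 (k := k) W).symm
  have hfr : Module.finrank k Γ(W, ⊤) = n := by
    rw [finrank_sec]
    have := euler_eq (k := k) hX.dim W
    omega
  let b := Module.finBasisOfFinrankEq k Γ(W, ⊤) hfr
  obtain ⟨M, e, hM, hdM, hq⟩ := exists_trivial_cover k hX W n fun i => homOf (b i)
  choose q hq using hq
  have hfac : ∀ t : Γ(W, ⊤), ∃ x : Coh.structureModule X ⟶ M, x ≫ e = homOf t := fun t => by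
    refine ⟨∑ i, scal _ (Coh.toGlobal (X ↘ Spec (CommRingCat.of k)) (b.repr t i)) ≫ q i, ?_⟩
    have hadd : ∀ (s : Finset (Fin n)) (f : Fin n → Γ(W, ⊤)), homOf (∑ i ∈ s, f i) = ∑ i ∈ s, homOf (f i) := fun s f =>
      map_sum (AddMonoidHom.mk' (fun t => homOf (L := W) t) fun x y => TMul.hom_ext_val (by
        show TMul.val (homOf (x + y)) ⊤ = TMul.val (homOf x) ⊤ + TMul.val (homOf y) ⊤
        rw [val_homOf, val_homOf, val_homOf, map_add])) f s
    rw [Preadditive.sum_comp]
    conv_rhs => rw [← b.sum_repr t, hadd]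
    refine Finset.sum_congr rfl fun i _ => ?_
    rw [Category.assoc, hq]
    refine Eq.trans ?_ (homOf_cst_smul (k := k) W _ (b i)).symm
    exact hom_ext' fun U m => (TMul.app_smul (homOf (b i)) _ m)
  have hpf : ∀ j, ∃ x : Coh.structureModule X ⟶ M, x ≫ e = SheafOfModules.ιFree (R := X.ringCatSheaf) j ≫ p := fun j => by
    obtain ⟨x, hx⟩ := hfac (TMul.val (show Coh.structureModule X ⟶ W from SheafOfModules.ιFree (R := X.ringCatSheaf) j ≫ p) ⊤)
    exact ⟨x, hx.trans (TMul.hom_ext_val (by rw [val_homOf, res_self]))⟩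
  choose x hx using hpf
  have hpe : Cofan.IsColimit.desc (SheafOfModules.isColimitFreeCofan (R := X.ringCatSheaf) ι) x ≫ e = p := by
    refine Cofan.IsColimit.hom_ext (SheafOfModules.isColimitFreeCofan (R := X.ringCatSheaf) ι) _ _ fun j => ?_
    rw [← Category.assoc, Cofan.IsColimit.fac, hx]
    rfl
  haveI : Epi e := by
    haveI := hp
    rw [← hpe] at hp
    exact @epi_of_epi _ _ _ _ _ _ e hp
  have hg' := grk_add (shortExact_ker e) (isCoh_of_rank hM)
  change grk M = grk (kernel e) + grk W at hg'
  rw [grk_of_rank hM, grk_of_rank hW] at hg'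
  have hK := isFinLocFree_sub k hX (kernel.ι e) (isCoh_kernel k (isCoh_of_rank hM) hWc e) hM
  rw [show grk (kernel e) = 0 by omega] at hK
  have hdd := Easy.deg_add (k := k) _ (shortExact_ker e) hK hM hW (Nat.zero_add n).symm
  rw [deg_rank_zero k hK, hdM, hd] at hdd
  omega

variable (k) in
/-- In genus one, bundles of equal slope have a nonzero map after a twist of degree zero. -/
theorem exists_hom_twist [IsAlgClosed k] (hdim : topologicalKrullDim X = 1) (hX : RegCurve X)
    (hg : Curv2.genus k X = 1) {A B : X.Modules} {a b : ℕ} (ha : 0 < a) (hb : 0 < b)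
    (hA : FlatMod.IsFinLocFreeOfRank a A) (hB : FlatMod.IsFinLocFreeOfRank b B)
    (hsl : (b : ℤ) * Curv2.deg k X A a = (a : ℤ) * Curv2.deg k X B b) :
    ∃ (M : X.Modules) (f : B ⟶ CohB1.tensorMod A M), PicF.IsInvertible M ∧ Curv2.deg k X M 1 = 0 ∧ f ≠ 0 := by
  haveI := isNoetherian_of_proper k X
  obtain ⟨L, -, hL, -, hdL, -, -⟩ := VBTwo.exists_deg (k := k) hdim hX 1
  have hA₁ := rank_tensor_inv hA hL
  obtain ⟨hW, hdW⟩ := rank_deg_homSh k hdim hX hb hA₁ hB
  rw [deg_twist (k := k) hX.dim hA hL, hdL] at hdW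
  obtain ⟨P, hP, hne⟩ := exists_section_twist_point k hdim hX hg (Nat.mul_pos hb ha) hW (by
    rw [hdW]; push_cast; linear_combination hsl)
  set I := Scheme.IdealSheafData.vanishingIdeal (⟨{P}, hP⟩ : Closeds X)
  have hI := isInvertible_pointIdeal hX.dim hP (genericPoint_ne_of_closed (k := k) hdim hP) (hX.reg P)
  have hdI : Curv2.deg k X (ClSub.idealMod I) 1 = -1 := by
    have h := euler_pointIdeal (k := k) hP (TMul.isInvertible_structureModule (X := X))
    rw [euler_eq_of_iso (TMul.commIso _ _), euler_eq_of_iso (TMul.leftUnitIso _)] at h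
    rw [Curv2.deg, h]; push_cast; ring
  let M := CohB1.tensorMod L (ClSub.idealMod I)
  have hBl := isFinLocFree_of_rank hB
  haveI := ExtShX.isIso_dualTensorTo hBl (CohB1.tensorMod A L)
  haveI := ExtShX.isIso_dualTensorTo hBl (CohB1.tensorMod A M)
  let e : CohB1.tensorMod (ClSub.idealMod I) (RefHull.homSh B (CohB1.tensorMod A L)) ≅
      RefHull.homSh B (CohB1.tensorMod A M) :=
    TMul.commIso _ _ ≪≫
      PicGrp.tensorModIso (asIso (ExtShX.dualTensorTo B (CohB1.tensorMod A L))).symm (Iso.refl _) ≪≫
      TMul.assocIso _ _ _ ≪≫ PicGrp.tensorModIso (Iso.refl _) (TMul.assocIso A L (ClSub.idealMod I)) ≪≫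
      asIso (ExtShX.dualTensorTo B (CohB1.tensorMod A M))
  rw [h_eq_of_iso e (q := 0)] at hne
  obtain ⟨s, hs⟩ := exists_section (k := k) hne
  refine ⟨M, (SecTwist.unitorR B).inv ≫ W7Hull.uncur s, TMul.isInvertible_tensorMod hL hI, ?_, fun h => hs ?_⟩
  · rw [deg_twist (k := k) hX.dim (isFinLocFreeOfRank_one hL) hI, hdL, hdI]; norm_num
  · refine W7Hull.curEquiv.symm.injective ?_
    show W7Hull.uncur s = W7Hull.uncur 0
    rw [uncur_zero, ← cancel_epi (SecTwist.unitorR B).inv, h, comp_zero]

end Groth.Agent.HNSplit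

namespace Groth.Agent.HNSplit

/-- An integral scheme of finite type over an algebraically closed field is geometrically connected. -/
theorem geometricallyConnected_of_isAlgClosed {k : Type u} [Field k] [IsAlgClosed k] {X : Scheme.{u}}
    (f : X ⟶ Spec (CommRingCat.of k)) [LocallyOfFiniteType f] [IsIntegral X] : GeometricallyConnected f := by
  haveI : GeometricallyIrreducible f := by
    refine ⟨geometrically_iff_of_commRing.2 fun L _ _ Z fst snd hZ => ?_⟩
    haveI := GrpField.irreducibleSpace_pullback f (Spec.map (CommRingCat.ofHom (algebraMap k L)))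
    exact hZ.isoPullback.hom.homeomorph.irreducibleSpace_iff.2 ‹_›
  exact GeomConn.geometricallyConnected_of_irreducible f

end Groth.Agent.HNSplit
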